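import Mathlib

/-!
# The affine chart of `Hilb^d` attached to `d` elements of a coordinate ring
-/

set_option autoImplicit false
universe u
set_option maxSynthPendingDepth 3

open TensorProduct MvPolynomial

noncomputable section

namespace Groth.Agent.HilbRep

variable (R B : Type u) [CommRing R] [CommRing B] [Algebra R B] {d : ℕ} (b : Fin d → B)

/-- The defining relations of the chart. -/
def chartRel : Set (MvPolynomial (B × Fin d) R) :=
  (Set.range fun x : B × B × Fin d => X (x.1 + x.2.1, x.2.2) - X (x.1, x.2.2) - X (x.2.1, x.2.2)) ∪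
  (Set.range fun x : R × B × Fin d => X (x.1 • x.2.1, x.2.2) - C x.1 * X (x.2.1, x.2.2)) ∪
  (Set.range fun x : Fin d × Fin d => X (b x.1, x.2) - if x.2 = x.1 then 1 else 0) ∪
  (Set.range fun x : B × B × Fin d =>
    X (x.1 * x.2.1, x.2.2) - ∑ i, X (x.2.1, i) * X (x.1 * b i, x.2.2))

/-- The chart ring. -/
abbrev ChartRing : Type u := MvPolynomial (B × Fin d) R ⧸ Ideal.span (chartRel R B b)

variable {R B}

/-- The universal coordinate functions. -/
def coord (β : B) (k : Fin d) : ChartRing R B b := Ideal.Quotient.mk _ (X (β, k))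

theorem coord_add (β γ : B) (k : Fin d) : coord (R := R) b (β + γ) k = coord b β k + coord b γ k := by
  rw [coord, coord, coord, ← map_add, Ideal.Quotient.mk_eq_mk_iff_sub_mem, ← sub_sub]
  exact Ideal.subset_span (Or.inl <| Or.inl <| Or.inl ⟨(β, γ, k), rfl⟩)

theorem coord_smul (r : R) (β : B) (k : Fin d) : coord (R := R) b (r • β) k = r • coord b β k := by
  rw [Algebra.smul_def r (coord b β k)]
  change Ideal.Quotient.mk _ _ = Ideal.Quotient.mk _ (C r) * Ideal.Quotient.mk _ _
  rw [← map_mul, Ideal.Quotient.mk_eq_mk_iff_sub_mem]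
  exact Ideal.subset_span (Or.inl <| Or.inl <| Or.inr ⟨(r, β, k), rfl⟩)

theorem coord_basis (i k : Fin d) : coord (R := R) b (b i) k = if k = i then 1 else 0 := by
  have e : ((if k = i then 1 else 0) : ChartRing R B b) =
      Ideal.Quotient.mk _ (if k = i then 1 else 0) := by split <;> simp
  rw [e, coord, Ideal.Quotient.mk_eq_mk_iff_sub_mem]
  exact Ideal.subset_span (Or.inl <| Or.inr ⟨(i, k), rfl⟩)

theorem coord_mul (β γ : B) (k : Fin d) :
    coord (R := R) b (β * γ) k = ∑ i, coord b γ i * coord b (β * b i) k := by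
  simp only [coord, ← map_mul]
  rw [← map_sum, Ideal.Quotient.mk_eq_mk_iff_sub_mem]
  exact Ideal.subset_span (Or.inr ⟨(β, γ, k), rfl⟩)

/-- The universal linear map `B → A^d`. -/
def coordMap : B →ₗ[R] (Fin d → ChartRing R B b) where
  toFun β k := coord b β k
  map_add' β γ := funext (coord_add b β γ)
  map_smul' r β := funext (coord_smul b r β)

/-- Its linear extension. -/
def coordLin : ChartRing R B b ⊗[R] B →ₗ[ChartRing R B b] (Fin d → ChartRing R B b) :=
  LinearMap.liftBaseChange (ChartRing R B b) (coordMap b)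

@[simp] theorem coordLin_tmul (a : ChartRing R B b) (β : B) :
    coordLin b (a ⊗ₜ β) = a • fun k => coord (R := R) b β k :=
  LinearMap.liftBaseChange_tmul ..

theorem coordLin_mul_left (β : B) (x : ChartRing R B b ⊗[R] B) :
    coordLin b ((1 ⊗ₜ β) * x) = ∑ i, coordLin b x i • fun k => coord (R := R) b (β * b i) k := by
  induction x using TensorProduct.induction_on with
  | zero => simp
  | tmul a γ =>
    rw [Algebra.TensorProduct.tmul_mul_tmul, one_mul, coordLin_tmul, coordLin_tmul]
    ext k
    simp only [Pi.smul_apply, Finset.sum_apply, smul_eq_mul]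
    rw [coord_mul, Finset.mul_sum]
    exact Finset.sum_congr rfl fun i _ => by ring
  | add x y hx hy =>
    simp only [mul_add, map_add, hx, hy, Pi.add_apply, add_smul, Finset.sum_add_distrib]

/-- The kernel of the universal map is an ideal. -/
def coordKer : Ideal (ChartRing R B b ⊗[R] B) where
  carrier := {x | coordLin b x = 0}
  zero_mem' := map_zero _
  add_mem' {x y} hx hy := by simp_all
  smul_mem' c x hx := by
    change coordLin b (c * x) = 0
    induction c using TensorProduct.induction_on with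
    | zero => simp
    | tmul a β =>
      have : (a ⊗ₜ[R] β : ChartRing R B b ⊗[R] B) * x = a • (((1 : ChartRing R B b) ⊗ₜ[R] β) * x) := by
        rw [← smul_mul_assoc, TensorProduct.smul_tmul', smul_eq_mul, mul_one]
      rw [this, map_smul, coordLin_mul_left]
      simp [show coordLin b x = 0 from hx]
    | add y z hy hz => rw [add_mul, map_add, hy, hz, add_zero]

/-- The universal algebra of rank `d`. -/
abbrev ChartAlg : Type u := (ChartRing R B b ⊗[R] B) ⧸ coordKer (R := R) b

/-- The image of `B` in the universal algebra. -/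
def chartPsi : B →+* ChartAlg (R := R) b :=
  (Ideal.Quotient.mk _).comp (Algebra.TensorProduct.includeRight (R := R) (A := ChartRing R B b)).toRingHom

/-- The structure map of the universal algebra. -/
def chartTheta : ChartRing R B b →+* ChartAlg (R := R) b :=
  (Ideal.Quotient.mk _).comp Algebra.TensorProduct.includeLeftRingHom

theorem chartPsi_algebraMap (r : R) :
    chartPsi b (algebraMap R B r) = chartTheta b (algebraMap R (ChartRing R B b) r) := by
  refine congrArg (Ideal.Quotient.mk _) ?_
  change (1 : ChartRing R B b) ⊗ₜ[R] algebraMap R B r = algebraMap R (ChartRing R B b) r ⊗ₜ[R] (1 : B)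
  rw [Algebra.algebraMap_eq_smul_one, Algebra.algebraMap_eq_smul_one, TensorProduct.smul_tmul]

theorem mk_eq_sum (x : ChartRing R B b ⊗[R] B) :
    Ideal.Quotient.mk (coordKer b) x = ∑ i, chartTheta b (coordLin b x i) * chartPsi b (b i) := by
  simp only [chartTheta, chartPsi, RingHom.comp_apply, ← map_mul]
  rw [← map_sum, Ideal.Quotient.mk_eq_mk_iff_sub_mem]
  change coordLin b _ = 0
  have e : ∀ i, (Algebra.TensorProduct.includeLeftRingHom (coordLin b x i)) *
      (Algebra.TensorProduct.includeRight (R := R) (A := ChartRing R B b)).toRingHom (b i) =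
      coordLin b x i ⊗ₜ[R] b i := fun i => by simp
  simp only [e, map_sub, map_sum, coordLin_tmul, sub_eq_zero]
  ext k
  simp [coord_basis]

theorem chart_bijective : Function.Bijective fun a : Fin d → ChartRing R B b =>
    ∑ i, chartTheta b (a i) * chartPsi (R := R) b (b i) := by
  refine ⟨fun a a' h => ?_, fun c => ?_⟩
  · simp only [chartTheta, chartPsi, RingHom.comp_apply, ← map_mul] at h
    rw [← map_sum, ← map_sum, Ideal.Quotient.mk_eq_mk_iff_sub_mem] at h
    have h' : coordLin b _ = 0 := h
    have e : ∀ (v : Fin d → ChartRing R B b) (i : Fin d), (Algebra.TensorProduct.includeLeftRingHom (v i)) *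
        (Algebra.TensorProduct.includeRight (R := R) (A := ChartRing R B b)).toRingHom (b i) =
        v i ⊗ₜ[R] b i := fun v i => by simp
    simp only [e, map_sub, map_sum, coordLin_tmul, sub_eq_zero] at h'
    ext k
    simpa [coord_basis] using congrFun h' k
  · obtain ⟨x, rfl⟩ := Ideal.Quotient.mk_surjective c
    exact ⟨coordLin b x, (mk_eq_sum b x).symm⟩

theorem chartPsi_eq_sum (β : B) :
    chartPsi (R := R) b β = ∑ i, chartTheta b (coord b β i) * chartPsi b (b i) := by
  have := mk_eq_sum b ((1 : ChartRing R B b) ⊗ₜ[R] β)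
  simpa [chartPsi] using this

section classify

variable {A C : Type u} [CommRing A] [CommRing C] (α : R →+* A) (θ : A →+* C) (ψ : B →+* C)
  (hψ : ∀ r, ψ (algebraMap R B r) = θ (α r))
  (hb : Function.Bijective fun a : Fin d → A => ∑ i, θ (a i) * ψ (b i))

/-- Uniqueness of the classifying map: it is determined by a compatible map of algebras. -/
theorem classify_unique (χ χ' : ChartRing R B b →+* A) (hχ : χ.comp (algebraMap R _) = α)
    (hχ' : χ'.comp (algebraMap R _) = α) (τ τ' : ChartAlg (R := R) b →+* C)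
    (h₁ : τ.comp (chartTheta b) = θ.comp χ) (h₂ : τ.comp (chartPsi b) = ψ)
    (h₁' : τ'.comp (chartTheta b) = θ.comp χ') (h₂' : τ'.comp (chartPsi b) = ψ)
    (hb : Function.Injective fun a : Fin d → A => ∑ i, θ (a i) * ψ (b i)) : χ = χ' := by
  refine Ideal.Quotient.ringHom_ext (MvPolynomial.ringHom_ext (fun r => ?_) fun x => ?_)
  · exact (RingHom.congr_fun hχ r).trans (RingHom.congr_fun hχ' r).symm
  · obtain ⟨β, k⟩ := x
    have key : ∀ (χ : ChartRing R B b →+* A) (τ : ChartAlg (R := R) b →+* C),
        τ.comp (chartTheta b) = θ.comp χ → τ.comp (chartPsi b) = ψ →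
        ψ β = ∑ i, θ (χ (coord b β i)) * ψ (b i) := by
      intro χ τ e₁ e₂
      rw [← RingHom.congr_fun e₂ β, RingHom.comp_apply, chartPsi_eq_sum, map_sum]
      refine Finset.sum_congr rfl fun i _ => ?_
      rw [map_mul]
      exact congrArg₂ _ (RingHom.congr_fun e₁ _) (RingHom.congr_fun e₂ _)
    exact congrFun (hb ((key χ τ h₁ h₂).symm.trans (key χ' τ' h₁' h₂'))) k

include hψ hb in
/-- Existence of the classifying map. -/
theorem exists_classify : ∃ (χ : ChartRing R B b →+* A) (τ : ChartAlg (R := R) b →+* C),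
    χ.comp (algebraMap R _) = α ∧ τ.comp (chartTheta b) = θ.comp χ ∧ τ.comp (chartPsi b) = ψ := by
  classical
  let Λ := Equiv.ofBijective _ hb
  let φ : B → Fin d → A := fun β => Λ.symm (ψ β)
  have hφ : ∀ β, ∑ i, θ (φ β i) * ψ (b i) = ψ β := fun β => Λ.apply_symm_apply (ψ β)
  have hinj := hb.1
  have hadd : ∀ β γ k, φ (β + γ) k = φ β k + φ γ k := fun β γ => congrFun <| hinj <| by
    simp only [map_add, add_mul, Finset.sum_add_distrib, hφ]
  have hsmul : ∀ (r : R) β k, φ (r • β) k = α r * φ β k := fun r β => congrFun <| hinj <| by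
    simp only [map_mul, mul_assoc, ← Finset.mul_sum, hφ, Algebra.smul_def, hψ]
  have hbas : ∀ i k, φ (b i) k = if k = i then 1 else 0 := fun i => congrFun <| hinj <| by
    simp only [hφ]
    simp
  have hmul : ∀ β γ k, φ (β * γ) k = ∑ i, φ γ i * φ (β * b i) k := fun β γ => congrFun <| hinj <| by
    simp only [hφ, map_sum, map_mul, Finset.sum_mul]
    rw [Finset.sum_comm]
    simp only [mul_assoc, ← Finset.mul_sum, hφ, map_mul]
    rw [show (ψ β * ψ γ) = ψ β * ∑ i, θ (φ γ i) * ψ (b i) by rw [hφ], Finset.mul_sum]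
    exact Finset.sum_congr rfl fun i _ => by ring
  let χ : ChartRing R B b →+* A := Ideal.Quotient.lift _ (MvPolynomial.eval₂Hom α fun x => φ x.1 x.2) (by
    intro x hx
    refine (Ideal.span_le.mpr ?_ : Ideal.span (chartRel R B b) ≤ RingHom.ker _) hx
    rintro _ (((⟨⟨β, γ, k⟩, rfl⟩ | ⟨⟨r, β, k⟩, rfl⟩) | ⟨⟨i, k⟩, rfl⟩) | ⟨⟨β, γ, k⟩, rfl⟩)
    · simp [hadd]
    · simp [hsmul]
    · rw [SetLike.mem_coe, RingHom.mem_ker, map_sub, MvPolynomial.eval₂Hom_X', hbas]
      dsimp only
      split_ifs <;> simp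
    · rw [SetLike.mem_coe, RingHom.mem_ker]
      simp only [map_sub, map_sum, map_mul, MvPolynomial.eval₂Hom_X']
      exact sub_eq_zero.mpr (hmul β γ k))
  letI : Algebra R A := α.toAlgebra
  letI : Algebra R C := (θ.comp α).toAlgebra
  let θ' : ChartRing R B b →ₐ[R] C :=
    { θ.comp χ with commutes' := fun r => congrArg θ (MvPolynomial.eval₂_C α _ r) }
  let ψ' : B →ₐ[R] C := { ψ with commutes' := hψ }
  let τ₀ : ChartRing R B b ⊗[R] B →ₐ[R] C := Algebra.TensorProduct.lift θ' ψ' fun _ _ => Commute.all _ _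
  have hτ₀ : ∀ x, τ₀ x = ∑ i, θ (χ (coordLin b x i)) * ψ (b i) := by
    intro x
    induction x using TensorProduct.induction_on with
    | zero => simp
    | tmul a β =>
      simp only [τ₀, Algebra.TensorProduct.lift_tmul, coordLin_tmul, Pi.smul_apply, smul_eq_mul, map_mul,
        mul_assoc, ← Finset.mul_sum]
      refine congrArg (θ (χ a) * ·) ((hφ β).symm.trans (Finset.sum_congr rfl fun i _ => ?_))
      rw [show χ (coord b β i) = φ β i from MvPolynomial.eval₂_X α _ _]
    | add x y hx hy => simp only [map_add, hx, hy, Pi.add_apply, add_mul, Finset.sum_add_distrib]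
  refine ⟨χ, Ideal.Quotient.lift _ τ₀.toRingHom (fun x hx => ?_), ?_, ?_, ?_⟩
  · change τ₀ x = 0
    simp [hτ₀, show coordLin b x = 0 from hx]
  · ext r; exact MvPolynomial.eval₂_C α _ r
  · refine RingHom.ext fun a => ?_
    change τ₀ (a ⊗ₜ[R] (1 : B)) = θ (χ a)
    rw [Algebra.TensorProduct.lift_tmul, map_one, mul_one]
    rfl
  · refine RingHom.ext fun β => ?_
    change τ₀ ((1 : ChartRing R B b) ⊗ₜ[R] β) = ψ β
    rw [Algebra.TensorProduct.lift_tmul, map_one, one_mul]
    rfl

end classify

/-- A compatible map respecting distinguished bases exhibits a pushout. -/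
theorem isPushout_of_basis {A₀ C₀ A C : Type u} [CommRing A₀] [CommRing C₀] [CommRing A] [CommRing C]
    (χ : A₀ →+* A) (θ₀ : A₀ →+* C₀) (θ : A →+* C) (τ : C₀ →+* C) (hc : τ.comp θ₀ = θ.comp χ)
    (v : Fin d → C₀) (h₀ : Function.Bijective fun a : Fin d → A₀ => ∑ i, θ₀ (a i) * v i)
    (h : Function.Bijective fun a : Fin d → A => ∑ i, θ (a i) * τ (v i)) :
    CategoryTheory.IsPushout (CommRingCat.ofHom χ) (CommRingCat.ofHom θ₀)
      (CommRingCat.ofHom θ) (CommRingCat.ofHom τ) := by
  letI := χ.toAlgebra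
  letI := θ₀.toAlgebra
  letI := θ.toAlgebra
  letI := τ.toAlgebra
  letI : Algebra A₀ C := (θ.comp χ).toAlgebra
  haveI : IsScalarTower A₀ A C := IsScalarTower.of_algebraMap_eq' rfl
  haveI : IsScalarTower A₀ C₀ C := IsScalarTower.of_algebraMap_eq' hc.symm
  let e₀ := Equiv.ofBijective _ h₀
  let L₀ : (Fin d → A₀) ≃ₗ[A₀] C₀ :=
    { e₀ with
      map_add' := fun a a' => by simp [e₀, add_mul, Finset.sum_add_distrib]
      map_smul' := fun c a => by simp [e₀, Algebra.smul_def, Finset.mul_sum, mul_assoc]; rfl }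
  let L : (Fin d → A) ≃ₗ[A] C :=
    { Equiv.ofBijective _ h with
      map_add' := fun a a' => by simp [add_mul, Finset.sum_add_distrib]
      map_smul' := fun c a => by simp [Algebra.smul_def, Finset.mul_sum, mul_assoc]; rfl }
  have hp : Algebra.IsPushout A₀ A C₀ C := by
    refine ⟨IsBaseChange.of_equiv (TensorProduct.AlgebraTensorModule.congr (LinearEquiv.refl A A) L₀.symm ≪≫ₗ
      TensorProduct.piScalarRight A₀ A A (Fin d) ≪≫ₗ L) fun x => ?_⟩
    obtain ⟨a, rfl⟩ := L₀.surjective x
    simp only [LinearEquiv.trans_apply, TensorProduct.AlgebraTensorModule.congr_tmul, LinearEquiv.refl_apply,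
      LinearEquiv.symm_apply_apply, TensorProduct.piScalarRight_apply, TensorProduct.piScalarRightHom_tmul]
    change ∑ i, θ (a i • (1 : A)) * τ (v i) = τ (∑ i, θ₀ (a i) * v i)
    rw [map_sum]
    refine Finset.sum_congr rfl fun i _ => ?_
    rw [map_mul, show τ (θ₀ (a i)) = θ (χ (a i)) from RingHom.congr_fun hc _, Algebra.smul_def, mul_one]
    rfl
  exact CommRingCat.isPushout_of_isPushout A₀ A C₀ C

end Groth.Agent.HilbRep
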