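import Mathlib
import Groth.Agent.HilbOne.Separated

/-!
# Families of `d` points: morphism pairs `(p, q)`, base change, extensionality
-/

set_option autoImplicit false
universe u

open CategoryTheory CategoryTheory.Limits AlgebraicGeometry Opposite

noncomputable section

namespace Groth.Agent.HilbRep

theorem exists_iso_image {A B : Scheme.{u}} (i : A ⟶ B) [IsClosedImmersion i] :
    ∃ e : A ≅ i.ker.subscheme, e.hom ≫ i.ker.subschemeι = i :=
  ⟨asIso i.toImage, Scheme.Hom.toImage_imageι i⟩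

variable {X S : Scheme.{u}} (f : X ⟶ S) (d : ℕ)

/-- A family of `d` points of `X/S` over a scheme `T`, together with the morphism `T ⟶ S`. -/
structure Fam (T : Scheme.{u}) : Type u where
  g : T ⟶ S
  Z : HilbD.Obj f d (Over.mk g)

namespace Fam

variable {f d} {T T' T'' : Scheme.{u}} (z : Fam f d T)

/-- The total space of the family. -/
abbrev sch : Scheme.{u} := z.Z.1.subscheme

/-- The projection to the base. -/
def p : z.sch ⟶ T := z.Z.1.subschemeι ≫ pullback.snd f z.g

/-- The projection to `X`. -/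
def q : z.sch ⟶ X := z.Z.1.subschemeι ≫ pullback.fst f z.g

theorem q_f : z.q ≫ f = z.p ≫ z.g := by
  rw [q, p, Category.assoc, Category.assoc, pullback.condition]

theorem mem : Mor2.IsFinLocFreeOfDeg d z.p := z.Z.2

instance : IsFinite z.p := z.mem.1.1
instance : Flat z.p := z.mem.1.2.1
instance : LocallyOfFinitePresentation z.p := z.mem.1.2.2

theorem finrank_p (t : T) : z.p.finrank t = d := z.mem.2 t

theorem lift_eq : pullback.lift z.q z.p z.q_f = z.Z.1.subschemeι := by
  apply pullback.hom_ext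
  · rw [pullback.lift_fst]; rfl
  · rw [pullback.lift_snd]; rfl

instance : IsClosedImmersion (pullback.lift z.q z.p z.q_f) := by
  rw [lift_eq]
  exact inferInstance

/-- Families with isomorphic `(p, q)` are equal. -/
theorem ext_iso {z z' : Fam f d T} (hg : z.g = z'.g) (e : z.sch ≅ z'.sch) (hp : e.hom ≫ z'.p = z.p)
    (hq : e.hom ≫ z'.q = z.q) : z = z' := by
  obtain ⟨g, Z⟩ := z
  obtain ⟨g', Z'⟩ := z'
  obtain rfl : g = g' := hg
  have he : e.hom ≫ Z'.1.subschemeι = Z.1.subschemeι := by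
    apply pullback.hom_ext
    · rw [Category.assoc]; exact hq
    · rw [Category.assoc]; exact hp
  have h := congrArg Scheme.Hom.ker he
  rw [Scheme.Hom.ker_comp_of_isIso, Scheme.IdealSheafData.ker_subschemeι,
    Scheme.IdealSheafData.ker_subschemeι] at h
  exact congrArg (Fam.mk g) (Subtype.ext h.symm)

/-- Base change of a family along `h : T' ⟶ T`. -/
def restr (h : T' ⟶ T) : Fam f d T' where
  g := h ≫ z.g
  Z := ⟨HilbD.pull f (Over.homMk h rfl : Over.mk (h ≫ z.g) ⟶ Over.mk z.g) z.Z.1,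
    HilbOne.mem_pull f d _ _ z.Z.2⟩

@[simp] theorem restr_g (h : T' ⟶ T) : (z.restr h).g = h ≫ z.g := rfl

theorem exists_isPullback_restr (h : T' ⟶ T) :
    ∃ a : (z.restr h).sch ⟶ z.sch, IsPullback a (z.restr h).p z.p h ∧ a ≫ z.q = (z.restr h).q := by
  let c : Over.mk (h ≫ z.g) ⟶ Over.mk z.g := Over.homMk h rfl
  let m := PicF.XTmap f c
  have hpb := ((IsPullback.of_hasPullback m z.Z.1.subschemeι).flip.paste_vert
    (HilbOne.isPullback_XTmap f c))
  have hI : (z.restr h).Z.1 = z.Z.1.comap m := HilbOne.pull_eq_comap f c z.Z.1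
  have key : ∀ (I : (PicF.XT f (Over.mk (h ≫ z.g))).IdealSheafData) (_ : I = z.Z.1.comap m),
      ∃ e : I.subscheme ≅ pullback m z.Z.1.subschemeι, e.hom ≫ pullback.fst _ _ = I.subschemeι := by
    rintro _ rfl
    exact ⟨z.Z.1.comapIso m, Scheme.IdealSheafData.comapIso_hom_fst z.Z.1 m⟩
  obtain ⟨e, he⟩ := key _ hI
  have he₁ : e.hom ≫ pullback.fst m z.Z.1.subschemeι ≫ pullback.snd f (h ≫ z.g) = (z.restr h).p := by
    rw [← Category.assoc, he]; rfl
  have he₂ : e.hom ≫ pullback.fst m z.Z.1.subschemeι ≫ pullback.fst f (h ≫ z.g) = (z.restr h).q := by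
    rw [← Category.assoc, he]; rfl
  refine ⟨e.hom ≫ pullback.snd _ _, ?_, ?_⟩
  · refine IsPullback.of_iso hpb e.symm (Iso.refl _) (Iso.refl _) (Iso.refl _) ?_ ?_ ?_ ?_
    · simp
    · rw [← he₁]
      simp only [Iso.refl_hom, Category.comp_id, Iso.symm_hom, Iso.inv_hom_id_assoc]
      exact (e.inv_hom_id_assoc _).symm
    · simp only [Iso.refl_hom, Category.comp_id, Category.id_comp]; rfl
    · simp only [Iso.refl_hom, Category.comp_id, Category.id_comp]; rfl
  · rw [← he₂, Category.assoc]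
    refine congrArg (e.hom ≫ ·) ?_
    change pullback.snd m z.Z.1.subschemeι ≫ z.Z.1.subschemeι ≫ pullback.fst f z.g = _
    rw [← Category.assoc, ← pullback.condition, Category.assoc]
    exact congrArg (pullback.fst m z.Z.1.subschemeι ≫ ·) (HilbOne.XTmap_fst f c)

/-- Recognition of a base change. -/
theorem eq_restr {z' : Fam f d T'} (h : T' ⟶ T) (hg : z'.g = h ≫ z.g) (a : z'.sch ⟶ z.sch)
    (hpb : IsPullback a z'.p z.p h) (hq : a ≫ z.q = z'.q) : z' = z.restr h := by
  obtain ⟨a', hpb', hq'⟩ := z.exists_isPullback_restr h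
  refine ext_iso hg (hpb.isoIsPullback _ _ hpb') (hpb.isoIsPullback_hom_snd _ _ hpb') ?_
  rw [← hq', ← Category.assoc, hpb.isoIsPullback_hom_fst _ _ hpb', hq]

@[simp] theorem restr_id : z.restr (𝟙 T) = z :=
  (z.eq_restr (𝟙 T) (Category.id_comp _).symm (𝟙 _) (IsPullback.of_horiz_isIso (by simp))
    (Category.id_comp _)).symm

@[simp] theorem restr_restr (h : T' ⟶ T) (h' : T'' ⟶ T') : (z.restr h).restr h' = z.restr (h' ≫ h) := by
  obtain ⟨a, hpb, hq⟩ := z.exists_isPullback_restr h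
  obtain ⟨a', hpb', hq'⟩ := (z.restr h).exists_isPullback_restr h'
  exact z.eq_restr _ (Category.assoc _ _ _).symm (a' ≫ a) (hpb'.paste_horiz hpb)
    (by rw [Category.assoc, hq, hq'])

/-- A family from a pair `(p, q)`. -/
def ofPair {W : Scheme.{u}} (g : T ⟶ S) (p : W ⟶ T) (q : W ⟶ X) (h : q ≫ f = p ≫ g)
    (hp : Mor2.IsFinLocFreeOfDeg d p) [IsClosedImmersion (pullback.lift q p h)] : Fam f d T where
  g := g
  Z := ⟨(pullback.lift q p h : W ⟶ PicF.XT f (Over.mk g)).ker, by
    have e : (pullback.lift q p h).toImage ≫ (pullback.lift q p h).imageι ≫ pullback.snd f g = p := by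
      rw [Scheme.Hom.toImage_imageι_assoc, pullback.lift_snd]
    have hcan : ∀ {A B : Scheme.{u}} (i : A ⟶ B) (r : B ⟶ T) [IsIso i],
        Mor2.IsFinLocFreeOfDeg d (i ≫ r) → Mor2.IsFinLocFreeOfDeg d r := by
      intro A B i r _ hir
      obtain ⟨⟨h1, h2, h3⟩, hd⟩ := hir
      rw [MorphismProperty.cancel_left_of_respectsIso (P := @IsFinite)] at h1
      rw [MorphismProperty.cancel_left_of_respectsIso (P := @Flat)] at h2
      rw [MorphismProperty.cancel_left_of_respectsIso (P := @LocallyOfFinitePresentation)] at h3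
      exact ⟨⟨h1, h2, h3⟩, fun y => by rw [← hd y, Scheme.Hom.finrank_comp_left_of_isIso]⟩
    exact hcan (pullback.lift q p h).toImage ((pullback.lift q p h).imageι ≫ pullback.snd f g) (by rw [e]; exact hp)⟩

section ofPair

variable {W : Scheme.{u}} (g : T ⟶ S) (p₀ : W ⟶ T) (q₀ : W ⟶ X) (h₀ : q₀ ≫ f = p₀ ≫ g)
  (hp₀ : Mor2.IsFinLocFreeOfDeg d p₀) [IsClosedImmersion (pullback.lift q₀ p₀ h₀)]

@[simp] theorem ofPair_g : (ofPair g p₀ q₀ h₀ hp₀).g = g := rfl

theorem exists_iso_ofPair : ∃ e : W ≅ (ofPair g p₀ q₀ h₀ hp₀).sch,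
    e.hom ≫ (ofPair g p₀ q₀ h₀ hp₀).p = p₀ ∧ e.hom ≫ (ofPair g p₀ q₀ h₀ hp₀).q = q₀ :=
by
  let i : W ⟶ PicF.XT f (Over.mk g) := pullback.lift q₀ p₀ h₀
  haveI : IsClosedImmersion i := ‹_›
  obtain ⟨e, he⟩ := exists_iso_image i
  refine ⟨e, ?_, ?_⟩
  · exact ((Category.assoc _ _ _).symm.trans (congrArg (· ≫ pullback.snd f g) he)).trans (pullback.lift_snd ..)
  · exact ((Category.assoc _ _ _).symm.trans (congrArg (· ≫ pullback.fst f g) he)).trans (pullback.lift_fst ..)

end ofPair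

end Fam

end Groth.Agent.HilbRep
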