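import Mathlib

/-!
# When `d` elements form a basis of a locally free module of rank `d` near a prime
-/

set_option autoImplicit false
universe u

open TensorProduct Module

noncomputable section

namespace Groth.Agent.HilbRep

variable {A M : Type u} [CommRing A] [AddCommGroup M] [Module A M] {d : ℕ}

/-- The submodule spanned by a family. -/
abbrev spanFam (w : Fin d → M) : Submodule A M := Submodule.span A (Set.range w)

/-- If the family generates at `P`, it is a basis after inverting some `a ∉ P`. -/
theorem exists_away [Module.Finite A M] [Module.Flat A M] (hrank : ∀ q, rankAtStalk (R := A) M q = d)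
    (w : Fin d → M) (P : PrimeSpectrum A) (hP : P ∉ Module.support A (M ⧸ spanFam (A := A) w)) :
    ∃ a, a ∉ P.asIdeal ∧ ∀ (A' : Type u) [CommRing A'] [Algebra A A'], IsUnit (algebraMap A A' a) →
      Function.Bijective fun v : Fin d → A' => ∑ i, v i • ((1 : A') ⊗ₜ[A] w i) := by
  rw [Module.support_eq_zeroLocus, PrimeSpectrum.mem_zeroLocus] at hP
  obtain ⟨a, ha, haP⟩ := Set.not_subset.mp hP
  have hmem : ∀ m : M, a • m ∈ spanFam (A := A) w := fun m => by
    rw [← Submodule.Quotient.mk_eq_zero, Submodule.Quotient.mk_smul]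
    exact Module.mem_annihilator.mp ha _
  refine ⟨a, haP, fun A' _ _ hu => ?_⟩
  let L : (Fin d → A') →ₗ[A'] A' ⊗[A] M := Fintype.linearCombination A' fun i => (1 : A') ⊗ₜ[A] w i
  suffices h : Function.Bijective L by
    exact h
  have hsurj : Function.Surjective L := by
    rw [← LinearMap.range_eq_top, eq_top_iff]
    rintro x -
    induction x using TensorProduct.induction_on with
    | zero => exact zero_mem _
    | add x y hx hy => exact add_mem hx hy
    | tmul c m =>
      obtain ⟨r, hr⟩ := (Submodule.mem_span_range_iff_exists_fun A).mp (hmem m)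
      obtain ⟨b, hb⟩ := hu.exists_left_inv
      refine ⟨fun i => (c * b) * algebraMap A A' (r i), ?_⟩
      simp only [L, Fintype.linearCombination_apply, TensorProduct.smul_tmul', smul_eq_mul, mul_one]
      have : ∀ i, ((c * b) * algebraMap A A' (r i)) ⊗ₜ[A] w i = (c * b) ⊗ₜ[A] (r i • w i) := fun i => by
        rw [mul_comm, ← Algebra.smul_def, TensorProduct.smul_tmul]
      simp only [this, ← TensorProduct.tmul_sum, hr]
      rw [← TensorProduct.smul_tmul, Algebra.smul_def, mul_comm, mul_assoc, hb, mul_one]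
  refine bijective_of_surjective_of_rankAtStalk_eq hsurj fun m _ => ?_
  haveI : Nontrivial A' :=
    ⟨1, 0, fun h => Ideal.IsPrime.one_notMem (inferInstance : m.IsPrime) (h ▸ m.zero_mem)⟩
  rw [rankAtStalk_baseChange, hrank, rankAtStalk_eq_finrank_of_free]
  simp

/-- If the family is a basis after a base change, it generates at every prime in the image. -/
theorem notMem_support_of_surjective [Module.Finite A M] (w : Fin d → M) (A' : Type u) [CommRing A']
    [Algebra A A'] (h : Function.Surjective fun v : Fin d → A' => ∑ i, v i • ((1 : A') ⊗ₜ[A] w i))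
    (P' : PrimeSpectrum A') :
    PrimeSpectrum.comap (algebraMap A A') P' ∉ Module.support A (M ⧸ spanFam (A := A) w) := by
  intro hs
  set P := PrimeSpectrum.comap (algebraMap A A') P' with hP
  rw [Module.mem_support_iff_nontrivial_residueField_tensorProduct] at hs
  let K := P.asIdeal.ResidueField
  let K' := P'.asIdeal.ResidueField
  let V := K ⊗[A] (M ⧸ spanFam (A := A) w)
  obtain ⟨v, hv⟩ := exists_ne (0 : V)
  obtain ⟨φ, hφ⟩ := Module.Projective.exists_dual_ne_zero K hv
  let ι : K →+* K' := Ideal.ResidueField.map P.asIdeal P'.asIdeal (algebraMap A A') rfl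
  have hι : ∀ a, ι (algebraMap A K a) = algebraMap A' K' (algebraMap A A' a) := fun a => by
    exact Ideal.ResidueField.map_algebraMap _ _ _ _ a
  let ψ₀ : M →ₗ[A] K' :=
    { toFun := fun m => ι (φ ((1 : K) ⊗ₜ[A] Submodule.Quotient.mk m))
      map_add' := fun m m' => by simp [TensorProduct.tmul_add]
      map_smul' := fun a m => by
        rw [Submodule.Quotient.mk_smul, TensorProduct.tmul_smul, RingHom.id_apply,
          ← algebraMap_smul K a ((1 : K) ⊗ₜ[A] _), map_smul, smul_eq_mul, map_mul, hι]
        rw [Algebra.smul_def, IsScalarTower.algebraMap_apply A A' K'] }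
  let ψ : A' ⊗[A] M →ₗ[A'] K' := LinearMap.liftBaseChange A' ψ₀
  have hψ : ∀ m, ψ₀ m = 0 := by
    intro m
    obtain ⟨c, hc⟩ := h ((1 : A') ⊗ₜ[A] m)
    have := congrArg ψ hc
    simp only [map_sum, map_smul, ψ, LinearMap.liftBaseChange_tmul, one_smul] at this
    rw [← this]
    refine Finset.sum_eq_zero fun i _ => ?_
    have hz : (Submodule.Quotient.mk (w i) : M ⧸ spanFam (A := A) w) = 0 :=
      (Submodule.Quotient.mk_eq_zero _).mpr (Submodule.subset_span ⟨i, rfl⟩)
    simp [ψ₀, hz]
  apply hφ
  have hz : φ = 0 := by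
    refine TensorProduct.AlgebraTensorModule.ext fun k q => ?_
    obtain ⟨m, rfl⟩ := Submodule.Quotient.mk_surjective _ q
    have e : k ⊗ₜ[A] (Submodule.Quotient.mk m : M ⧸ spanFam (A := A) w) = k • ((1 : K) ⊗ₜ[A] Submodule.Quotient.mk m) := by
      rw [TensorProduct.smul_tmul', smul_eq_mul, mul_one]
    rw [e, map_smul, show φ ((1 : K) ⊗ₜ[A] Submodule.Quotient.mk m) = 0 from
      (map_eq_zero ι).mp (hψ m)]
    simp
  rw [hz]; rfl

/-- Some `d` members of a generating set generate at `P`. -/
theorem exists_family [Module.Finite A M] [Module.Flat A M] (hrank : ∀ q, rankAtStalk (R := A) M q = d)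
    {ι : Type u} (g : ι → M) (hg : Submodule.span A (Set.range g) = ⊤) (P : PrimeSpectrum A) :
    ∃ c : Fin d → ι, P ∉ Module.support A (M ⧸ spanFam (A := A) fun i => g (c i)) := by
  let K := P.asIdeal.ResidueField
  let V := K ⊗[A] M
  have hspan : Submodule.span K (Set.range fun i => (1 : K) ⊗ₜ[A] g i) = ⊤ := by
    have e := Submodule.baseChange_span (A := K) (R := A) (Set.range g)
    rw [hg, Submodule.baseChange_top, ← Set.range_comp] at e
    exact e.symm
  obtain ⟨κ, a, -, hsp, hli⟩ := exists_linearIndependent' K fun i => (1 : K) ⊗ₜ[A] g i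
  let bs := Basis.mk hli (top_le_iff.mpr (hsp.trans hspan))
  haveI : Finite κ := Module.Finite.finite_basis bs
  haveI := Fintype.ofFinite κ
  have hcard : Fintype.card κ = d := by
    rw [← Module.finrank_eq_card_basis bs]
    exact (rankAtStalk_eq P).symm.trans (hrank P)
  refine ⟨fun i => a ((Fintype.equivFinOfCardEq hcard).symm i), fun hs => ?_⟩
  rw [Module.mem_support_iff_nontrivial_residueField_tensorProduct] at hs
  set N := spanFam (A := A) fun i => g (a ((Fintype.equivFinOfCardEq hcard).symm i))
  let π : V →ₗ[K] K ⊗[A] (M ⧸ N) := N.mkQ.baseChange K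
  have hπ : Function.Surjective π := LinearMap.baseChange_surjective K (Submodule.mkQ_surjective N)
  have h0 : π = 0 := bs.ext fun k => by
    rw [Basis.mk_apply]
    simp only [Function.comp_apply, π, LinearMap.baseChange_tmul, LinearMap.zero_apply, Submodule.mkQ_apply]
    rw [(Submodule.Quotient.mk_eq_zero N).mpr (Submodule.subset_span ⟨Fintype.equivFinOfCardEq hcard k, by simp⟩),
      TensorProduct.tmul_zero]
  obtain ⟨x, hx⟩ := exists_ne (0 : K ⊗[A] (M ⧸ N))
  obtain ⟨y, rfl⟩ := hπ x
  exact hx (by rw [h0]; rfl)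

/-- A finite flat algebra of rank `d` has at most `d` primes over each prime. -/
theorem card_le_of_comap_eq {A C : Type u} [CommRing A] [CommRing C] [Algebra A C] [Module.Finite A C]
    [Module.Flat A C] {d : ℕ} (hrank : ∀ q, rankAtStalk (R := A) C q = d) (P : PrimeSpectrum A)
    (s : Finset (PrimeSpectrum C)) (hs : ∀ Q ∈ s, PrimeSpectrum.comap (algebraMap A C) Q = P) : s.card ≤ d := by
  classical
  let K := P.asIdeal.ResidueField
  have he : ∀ Q : s, ∃ e : C, e ∉ Q.1.asIdeal ∧ ∀ Q' : s, Q' ≠ Q → e ∈ Q'.1.asIdeal := by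
    intro Q
    have : ∀ Q' : s, ∃ x : C, x ∉ Q.1.asIdeal ∧ (Q' ≠ Q → x ∈ Q'.1.asIdeal) := by
      intro Q'
      by_cases h : Q' = Q
      · exact ⟨1, fun hh => Q.1.2.ne_top ((Ideal.eq_top_iff_one _).mpr hh), fun hne => (hne h).elim⟩
      · obtain ⟨x, hx, hx'⟩ := Set.not_subset.mp (fun hle : (Q'.1.asIdeal : Set C) ⊆ Q.1.asIdeal => by
          have hlt : Q'.1.asIdeal < Q.1.asIdeal :=
            lt_of_le_of_ne hle fun e => h (Subtype.ext (PrimeSpectrum.ext e))
          have := Ideal.IsIntegral.comap_lt_comap (R := A) hlt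
          exact this.ne (congrArg PrimeSpectrum.asIdeal ((hs _ Q'.2).trans (hs _ Q.2).symm)))
        exact ⟨x, hx', fun _ => hx⟩
    choose x hx hx' using this
    refine ⟨∏ Q', x Q', fun hm => ?_, fun Q' hne => Ideal.mem_of_dvd _ (Finset.dvd_prod_of_mem x (Finset.mem_univ Q')) (hx' Q' hne)⟩
    obtain ⟨Q', -, hQ'⟩ := Ideal.IsPrime.prod_mem_iff.mp hm
    exact hx Q' hQ'
  choose e he he' using he
  have hli : LinearIndependent K fun Q : s => (1 : K) ⊗ₜ[A] e Q := by
    rw [Fintype.linearIndependent_iff]
    intro c hc Q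
    let L := Q.1.asIdeal.ResidueField
    let ι : K →+* L := Ideal.ResidueField.map P.asIdeal Q.1.asIdeal (algebraMap A C)
      (congrArg PrimeSpectrum.asIdeal (hs _ Q.2)).symm
    have hι : ∀ a, ι (algebraMap A K a) = algebraMap A L a := fun a => by
      rw [IsScalarTower.algebraMap_apply A C L]
      exact Ideal.ResidueField.map_algebraMap _ _ _ _ a
    let ιA : K →ₐ[A] L := { ι with commutes' := hι }
    let φ : K ⊗[A] C →ₐ[A] L := Algebra.TensorProduct.lift ιA (IsScalarTower.toAlgHom A C L) fun _ _ => Commute.all _ _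
    have h := congrArg φ hc
    simp only [map_sum, map_zero, TensorProduct.smul_tmul', smul_eq_mul, mul_one, φ,
      Algebra.TensorProduct.lift_tmul] at h
    rw [Finset.sum_eq_single Q (fun Q' _ hne => by
        have hz : algebraMap C L (e Q') = 0 := Ideal.algebraMap_residueField_eq_zero.mpr (he' Q' Q (Ne.symm hne))
        change ιA (c Q') * algebraMap C L (e Q') = 0
        rw [hz, mul_zero]) (fun h => (h (Finset.mem_univ Q)).elim)] at h
    refine (map_eq_zero ι).mp ((mul_eq_zero.mp h).resolve_right fun hz => he Q ?_)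
    exact Ideal.algebraMap_residueField_eq_zero.mp hz
  have := hli.fintype_card_le_finrank
  rw [Fintype.card_coe] at this
  exact this.trans ((rankAtStalk_eq P).symm.trans (hrank P)).le

end Groth.Agent.HilbRep
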