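import Mathlib
import Groth.Agent.HilbRep.Fam
import Groth.Agent.HilbRep.FibreAlg

/-!
# Good opens: where `d` given functions form a basis of a family of points
-/

set_option autoImplicit false
universe u

open CategoryTheory CategoryTheory.Limits AlgebraicGeometry Opposite

noncomputable section

namespace Groth.Agent.HilbRep

variable {X S : Scheme.{u}} (f : X ⟶ S) (d : ℕ)

/-- An affine open of `X` over an affine open of `S` with `d` functions on it. -/
structure ChartData : Type u where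
  V : S.Opens
  hV : IsAffineOpen V
  U : X.Opens
  hU : IsAffineOpen U
  le : U ≤ f ⁻¹ᵁ V
  b : Fin d → Γ(X, U)

variable {f d}

/-- The functions of the chart form a basis of the whole family, everything lying over the chart. -/
structure GoodAff (c : ChartData f d) {T : Scheme.{u}} (z : Fam f d T) : Prop where
  gV : (⊤ : T.Opens) ≤ z.g ⁻¹ᵁ c.V
  qU : (⊤ : z.sch.Opens) ≤ z.q ⁻¹ᵁ c.U
  bij : Function.Bijective fun a : Fin d → Γ(T, ⊤) =>
    ∑ i, z.p.appTop.hom (a i) * (z.q.appLE c.U ⊤ qU).hom (c.b i)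

/-- The open locus where the chart is good. -/
def goodLocus (c : ChartData f d) {T : Scheme.{u}} (z : Fam f d T) : T.Opens :=
  ⟨{t | ∃ (W : Scheme.{u}) (j : W ⟶ T), IsOpenImmersion j ∧ IsAffine W ∧ t ∈ Set.range j ∧
      GoodAff c (z.restr j)}, by
    refine isOpen_iff_forall_mem_open.mpr fun t ⟨W, j, hj, hW, ht, hg⟩ => ?_
    exact ⟨Set.range j, fun s hs => ⟨W, j, hj, hW, hs, hg⟩, j.isOpenEmbedding.isOpen_range, ht⟩⟩

theorem appLE_top_congr {A B : Scheme.{u}} {φ φ' : A ⟶ B} (h : φ = φ') (U : B.Opens)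
    (e : (⊤ : A.Opens) ≤ φ ⁻¹ᵁ U) (e' : (⊤ : A.Opens) ≤ φ' ⁻¹ᵁ U) :
    φ.appLE U ⊤ e = φ'.appLE U ⊤ e' := by
  subst h; rfl

theorem appLE_top_comp {A B B' : Scheme.{u}} (a : A ⟶ B) (φ : B ⟶ B') (U : B'.Opens)
    (e : (⊤ : B.Opens) ≤ φ ⁻¹ᵁ U) (e' : (⊤ : A.Opens) ≤ (a ≫ φ) ⁻¹ᵁ U) :
    (a ≫ φ).appLE U ⊤ e' = φ.appLE U ⊤ e ≫ a.appTop := by
  rw [Scheme.Hom.appLE_comp_appLE a φ U ⊤ ⊤ e le_rfl |>.symm]
  · congr 1
    simp [Scheme.Hom.appLE]

/-- A pushout square transports the basis condition to the tensor product. -/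
theorem bijective_iff_of_isPushout {A A' C C' : CommRingCat.{u}} {χ : A ⟶ A'} {θ : A ⟶ C} {θ' : A' ⟶ C'}
    {τ : C ⟶ C'} (h : IsPushout χ θ θ' τ) (v : Fin d → C) :
    letI := χ.hom.toAlgebra; letI := θ.hom.toAlgebra
    (Function.Bijective (fun a : Fin d → A' => ∑ i, θ'.hom (a i) * τ.hom (v i)) ↔
      Function.Bijective fun a : Fin d → A' => ∑ i, a i • ((1 : A') ⊗ₜ[A] v i)) := by
  letI := χ.hom.toAlgebra
  letI := θ.hom.toAlgebra
  letI := θ'.hom.toAlgebra
  letI := τ.hom.toAlgebra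
  letI : Algebra A C' := (θ'.hom.comp χ.hom).toAlgebra
  haveI : IsScalarTower A A' C' := IsScalarTower.of_algebraMap_eq' rfl
  haveI : IsScalarTower A C C' := IsScalarTower.of_algebraMap_eq' (congrArg CommRingCat.Hom.hom h.w)
  haveI hp : Algebra.IsPushout A A' C C' := CommRingCat.isPushout_iff_isPushout.mp h
  have e : ∀ a : Fin d → A', hp.1.equiv (∑ i, a i • ((1 : A') ⊗ₜ[A] v i)) = ∑ i, θ'.hom (a i) * τ.hom (v i) := by
    intro a
    rw [map_sum]
    refine Finset.sum_congr rfl fun i _ => ?_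
    rw [map_smul, IsBaseChange.equiv_tmul, one_smul, Algebra.smul_def]
    rfl
  rw [show (fun a : Fin d → A' => ∑ i, θ'.hom (a i) * τ.hom (v i)) =
    hp.1.equiv ∘ fun a => ∑ i, a i • ((1 : A') ⊗ₜ[A] v i) from funext fun a => (e a).symm]
  exact hp.1.equiv.bijective.of_comp_iff' _

theorem bijective_tmul {A C : Type u} [CommRing A] [CommRing C] [Algebra A C] (v : Fin d → C)
    (h : Function.Bijective fun a : Fin d → A => ∑ i, algebraMap A C (a i) * v i)
    (A' : Type u) [CommRing A'] [Algebra A A'] :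
    Function.Bijective fun a : Fin d → A' => ∑ i, a i • ((1 : A') ⊗ₜ[A] v i) := by
  let L : (Fin d → A) →ₗ[A] C := Fintype.linearCombination A v
  have hL : Function.Bijective L := by
    convert h using 1
    funext a
    simp [L, Fintype.linearCombination_apply, Algebra.smul_def]
  let bs := Algebra.TensorProduct.basis A' (Module.Basis.ofEquivFun (LinearEquiv.ofBijective L hL).symm)
  have e : (fun a : Fin d → A' => ∑ i, a i • ((1 : A') ⊗ₜ[A] v i)) = bs.equivFun.symm := by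
    funext a
    rw [Module.Basis.equivFun_symm_apply]
    refine Finset.sum_congr rfl fun i _ => ?_
    simp [bs, L, Fintype.linearCombination_apply, Pi.single_apply]
  rw [e]
  exact bs.equivFun.symm.bijective

variable {c : ChartData f d} {T T' : Scheme.{u}}

instance isAffine_sch [IsAffine T] (z : Fam f d T) : IsAffine z.sch := isAffine_of_isAffineHom z.p

/-- Goodness is stable under affine base change. -/
theorem GoodAff.restr [IsAffine T] [IsAffine T'] {z : Fam f d T} (hz : GoodAff c z) (h : T' ⟶ T) :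
    GoodAff c (z.restr h) := by
  obtain ⟨a, hpb, hq⟩ := z.exists_isPullback_restr h
  have qU' : (⊤ : (z.restr h).sch.Opens) ≤ (z.restr h).q ⁻¹ᵁ c.U := by
    rw [← hq]
    exact fun x _ => hz.qU (x := a x) trivial
  refine ⟨fun x _ => hz.gV (x := h x) trivial, qU', ?_⟩
  have hb := hz.bij
  have hpo := (isPushout_appTop_of_isPullback hpb).flip
  rw [appLE_top_congr hq.symm c.U qU' (by rw [hq]; exact qU'), appLE_top_comp a z.q c.U hz.qU]
  refine (bijective_iff_of_isPushout hpo fun i => (z.q.appLE c.U ⊤ hz.qU).hom (c.b i)).mpr ?_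
  letI := h.appTop.hom.toAlgebra
  letI := z.p.appTop.hom.toAlgebra
  exact bijective_tmul _ hb _

theorem mem_goodLocus_of_good [IsAffine T] {z : Fam f d T} (hz : GoodAff c z) (t : T) : t ∈ goodLocus c z :=
  ⟨T, 𝟙 T, inferInstance, inferInstance, ⟨t, rfl⟩, by rwa [Fam.restr_id]⟩

/-- The locus only grows along open immersions. -/
theorem map_goodLocus (z : Fam f d T) (j : T' ⟶ T) [IsOpenImmersion j] {t : T'}
    (ht : t ∈ goodLocus c (z.restr j)) : j t ∈ goodLocus c z := by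
  obtain ⟨W, k, hk, hW, ⟨w, rfl⟩, hg⟩ := ht
  rw [Fam.restr_restr] at hg
  exact ⟨W, k ≫ j, inferInstance, hW, ⟨w, rfl⟩, hg⟩

/-- Pullback of the good locus. -/
theorem preimage_goodLocus (z : Fam f d T) (h : T' ⟶ T) {t' : T'} (ht : h t' ∈ goodLocus c z) :
    t' ∈ goodLocus c (z.restr h) := by
  obtain ⟨W, j, hj, hW, hmem, hg⟩ := ht
  obtain ⟨W', hW', ht', hle⟩ := exists_isAffineOpen_mem_and_subset (X := T') (x := t')
    (U := h ⁻¹ᵁ j.opensRange) hmem
  haveI : IsAffine W'.toScheme := hW'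
  let k : W'.toScheme ⟶ W := IsOpenImmersion.lift j (W'.ι ≫ h) (by
    rintro _ ⟨x, rfl⟩
    exact hle x.2)
  have hk : k ≫ j = W'.ι ≫ h := IsOpenImmersion.lift_fac _ _ _
  refine ⟨W', W'.ι, inferInstance, hW', ⟨⟨t', ht'⟩, rfl⟩, ?_⟩
  rw [Fam.restr_restr, ← hk, ← Fam.restr_restr]
  exact hg.restr k

/-- Shrinking: an affine neighbourhood over `V` whose preimage lies in `U`. -/
theorem exists_shrink (z : Fam f d T) (t : T) (hg : z.g t ∈ c.V) (hfib : ∀ x, z.p x = t → z.q x ∈ c.U) :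
    ∃ W : T.Opens, IsAffineOpen W ∧ t ∈ W ∧ ((⊤ : W.toScheme.Opens) ≤ (z.restr W.ι).g ⁻¹ᵁ c.V) ∧
      ((⊤ : (z.restr W.ι).sch.Opens) ≤ (z.restr W.ι).q ⁻¹ᵁ c.U) := by
  have hcl : IsClosed (z.p '' ((z.q ⁻¹ᵁ c.U : z.sch.Opens) : Set z.sch)ᶜ) :=
    z.p.isClosedMap _ (z.q ⁻¹ᵁ c.U).isOpen.isClosed_compl
  let O : T.Opens := (z.g ⁻¹ᵁ c.V) ⊓ ⟨_, hcl.isOpen_compl⟩
  have htO : t ∈ O := ⟨hg, by rintro ⟨x, hx, hpx⟩; exact hx (hfib x hpx)⟩
  obtain ⟨W, hW, htW, hle⟩ := exists_isAffineOpen_mem_and_subset htO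
  refine ⟨W, hW, htW, fun w _ => (hle w.2).1, fun x _ => ?_⟩
  obtain ⟨a, hpb, hq⟩ := z.exists_isPullback_restr W.ι
  by_contra hx
  refine (hle (((z.restr W.ι).p x).2)).2 ⟨a x, ?_, ?_⟩
  · change ¬ z.q (a x) ∈ c.U
    rw [← Scheme.Hom.comp_apply, hq]
    exact hx
  · rw [← Scheme.Hom.comp_apply, hpb.w]
    rfl

section generation

open TensorProduct

variable [IsAffine T]

/-- Module facts about an affine family. -/
theorem module_of_fam (z : Fam f d T) :
    letI := z.p.appTop.hom.toAlgebra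
    Module.Finite Γ(T, ⊤) Γ(z.sch, ⊤) ∧ Module.Flat Γ(T, ⊤) Γ(z.sch, ⊤) ∧
      ∀ q, Module.rankAtStalk (R := Γ(T, ⊤)) Γ(z.sch, ⊤) q = d := by
  letI := z.p.appTop.hom.toAlgebra
  have h1 : z.p.appTop.hom.Finite := z.p.finite_appTop
  have h2 : z.p.appTop.hom.Flat := z.p.flat_appTop
  refine ⟨h1, h2, fun q => ?_⟩
  have hd := z.finrank_p (T.isoSpec.inv q)
  have hpb : IsPullback z.sch.isoSpec.hom z.p (Spec.map z.p.appTop) T.isoSpec.hom :=
    IsPullback.of_horiz_isIso ⟨Scheme.isoSpec_hom_naturality z.p⟩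
  haveI : IsFinite (Spec.map z.p.appTop) := (IsFinite.SpecMap_iff (f := z.p.appTop)).mpr h1
  haveI : Flat (Spec.map z.p.appTop) := (Flat.SpecMap_iff (f := z.p.appTop)).mpr h2
  rw [Scheme.Hom.finrank_of_isPullback _ _ _ _ hpb, Scheme.Hom.finrank_SpecMap_eq_finrank h1 h2] at hd
  rw [← Scheme.Hom.comp_apply, Iso.inv_hom_id] at hd
  exact hd

/-- If the chart functions generate at a prime, the chart is good near it. -/
theorem exists_good_of_notMem (z : Fam f d T) (hgV : (⊤ : T.Opens) ≤ z.g ⁻¹ᵁ c.V)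
    (hqU : (⊤ : z.sch.Opens) ≤ z.q ⁻¹ᵁ c.U) (t : T)
    (ht : letI := z.p.appTop.hom.toAlgebra
      T.isoSpec.hom t ∉ Module.support Γ(T, ⊤)
        (Γ(z.sch, ⊤) ⧸ spanFam (A := Γ(T, ⊤)) fun i => (z.q.appLE c.U ⊤ hqU).hom (c.b i))) :
    t ∈ goodLocus c z := by
  letI := z.p.appTop.hom.toAlgebra
  obtain ⟨h1, h2, h3⟩ := module_of_fam z
  haveI := h1
  haveI := h2
  obtain ⟨a, ha, hbij⟩ := exists_away h3 _ (T.isoSpec.hom t) ht
  let W : T.Opens := T.basicOpen a
  haveI : IsAffine W.toScheme := (isAffineOpen_top T).basicOpen a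
  have htW : t ∈ W := by
    have e : T.isoSpec.hom ⁻¹ᵁ PrimeSpectrum.basicOpen a = W := by
      rw [Scheme.isoSpec_hom]
      exact Scheme.toSpecΓ_preimage_basicOpen T a
    rw [← e]
    exact ha
  refine ⟨W, W.ι, inferInstance, inferInstance, ⟨⟨t, htW⟩, rfl⟩, ?_⟩
  obtain ⟨b, hpb, hq⟩ := z.exists_isPullback_restr W.ι
  have qU' : (⊤ : (z.restr W.ι).sch.Opens) ≤ (z.restr W.ι).q ⁻¹ᵁ c.U := by
    rw [← hq]
    exact fun x _ => hqU (x := b x) trivial
  refine ⟨fun x _ => hgV (x := W.ι x) trivial, qU', ?_⟩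
  have hpo := (isPushout_appTop_of_isPullback hpb).flip
  rw [appLE_top_congr hq.symm c.U qU' (by rw [hq]; exact qU'), appLE_top_comp b z.q c.U hqU]
  refine (bijective_iff_of_isPushout hpo fun i => (z.q.appLE c.U ⊤ hqU).hom (c.b i)).mpr ?_
  letI := W.ι.appTop.hom.toAlgebra
  refine hbij _ ?_
  change IsUnit (W.ι.appTop.hom a)
  have key : ∀ (U : T.Opens) (e : U ≤ T.basicOpen a),
      IsUnit ((T.presheaf.map (homOfLE (le_top : U ≤ ⊤)).op).hom a) := fun U e => by
    rw [← homOfLE_comp e (T.basicOpen_le a), op_comp, T.presheaf.map_comp, CommRingCat.hom_comp, RingHom.comp_apply]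
    exact (T.toLocallyRingedSpace.toRingedSpace.isUnit_res_basicOpen a).map _
  rw [Scheme.Opens.ι_appTop]
  exact key _ (by rw [Scheme.Opens.ι_image_top])

/-- A good base change forces goodness near the image. -/
theorem mem_goodLocus_of_restr (z : Fam f d T) (hgV : (⊤ : T.Opens) ≤ z.g ⁻¹ᵁ c.V)
    (hqU : (⊤ : z.sch.Opens) ≤ z.q ⁻¹ᵁ c.U) [IsAffine T'] (h : T' ⟶ T) (hg : GoodAff c (z.restr h)) (t' : T') :
    h t' ∈ goodLocus c z := by
  letI := z.p.appTop.hom.toAlgebra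
  haveI := (module_of_fam z).1
  refine exists_good_of_notMem z hgV hqU _ ?_
  obtain ⟨a, hpb, hq⟩ := z.exists_isPullback_restr h
  have hb := hg.bij
  rw [appLE_top_congr hq.symm c.U hg.qU (by rw [hq]; exact hg.qU), appLE_top_comp a z.q c.U hqU] at hb
  have hb' := (bijective_iff_of_isPushout (isPushout_appTop_of_isPullback hpb).flip
    fun i => (z.q.appLE c.U ⊤ hqU).hom (c.b i)).mp hb
  letI := h.appTop.hom.toAlgebra
  have := notMem_support_of_surjective (A := Γ(T, ⊤)) _ Γ(T', ⊤) hb'.2 (T'.isoSpec.hom t')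
  have e : PrimeSpectrum.comap (algebraMap Γ(T, ⊤) Γ(T', ⊤)) (T'.isoSpec.hom t') = T.isoSpec.hom (h t') := by
    rw [← Scheme.Hom.comp_apply h, ← Scheme.isoSpec_hom_naturality]
    rfl
  rw [e] at this
  exact this

end generation

end Groth.Agent.HilbRep
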