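import Mathlib
import Groth.Agent.HilbRep.Fam
import Groth.Agent.FpqcDescent.IdealGlue

/-!
# The presheaf of families of points is a Zariski sheaf
-/

set_option autoImplicit false
universe u

open CategoryTheory CategoryTheory.Limits AlgebraicGeometry Opposite

noncomputable section

namespace Groth.Agent.HilbRep

variable {X S : Scheme.{u}} (f : X ⟶ S) (d : ℕ)

/-- The functor of families of `d` points. -/
def functor : Scheme.{u}ᵒᵖ ⥤ Type u where
  obj T := Fam f d T.unop
  map h := TypeCat.ofHom fun z => z.restr h.unop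
  map_id T := by ext z; exact z.restr_id
  map_comp h h' := by ext z; exact (z.restr_restr h.unop h'.unop).symm

variable {f d}

/-- Equality of families with the same `g`, as equality of ideal sheaves. -/
theorem Fam.ext_ideal {T : Scheme.{u}} {g : T ⟶ S} {Z Z' : HilbD.Obj f d (Over.mk g)} (h : Z.1 = Z'.1) :
    (⟨g, Z⟩ : Fam f d T) = ⟨g, Z'⟩ := congrArg (Fam.mk g) (Subtype.ext h)

theorem Fam.restr_ideal {T T' : Scheme.{u}} (z : Fam f d T) (h : T' ⟶ T) :
    (z.restr h).Z.1 = z.Z.1.comap (PicF.XTmap f (Over.homMk h rfl : Over.mk (h ≫ z.g) ⟶ Over.mk z.g)) :=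
  HilbOne.pull_eq_comap f _ _

/-- A family is determined by its restrictions to the members of an open cover, and any compatible
system glues. -/
theorem existsUnique_glue {T : Scheme.{u}} {ι : Type u} {U : ι → Scheme.{u}} (j : ∀ i, U i ⟶ T)
    [∀ i, IsOpenImmersion (j i)] (hcov : ∀ t : T, ∃ i, t ∈ Set.range (j i))
    (z : ∀ i, Fam f d (U i)) (hz : ∀ (i k : ι) {W : Scheme.{u}} (a : W ⟶ U i) (b : W ⟶ U k),
      a ≫ j i = b ≫ j k → (z i).restr a = (z k).restr b) :
    ∃! Z : Fam f d T, ∀ i, Z.restr (j i) = z i := by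
  classical
  let 𝒰 : T.OpenCover := Scheme.Cover.mkOfCovers ι U j (fun t => hcov t)
  have hg : ∀ i k : ι, pullback.fst (j i) (j k) ≫ (z i).g = pullback.snd _ _ ≫ (z k).g := fun i k =>
    congrArg Fam.g (hz i k _ _ pullback.condition)
  let g : T ⟶ S := 𝒰.glueMorphisms (fun i => (z i).g) hg
  have hjg : ∀ i, j i ≫ g = (z i).g := fun i => 𝒰.ι_glueMorphisms _ hg i
  let c : ∀ i, Over.mk (j i ≫ g) ⟶ Over.mk g := fun i => Over.homMk (j i) rfl
  let Q : ι → Scheme.{u} := fun i => PicF.XT f (Over.mk (j i ≫ g))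
  let m : ∀ i, Q i ⟶ PicF.XT f (Over.mk g) := fun i => PicF.XTmap f (c i)
  have hm : ∀ i, IsOpenImmersion (m i) := fun i =>
    MorphismProperty.of_isPullback (P := @IsOpenImmersion) (HilbOne.isPullback_XTmap f (c i)).flip
      (inferInstanceAs (IsOpenImmersion (j i)))
  -- the transported families
  have hz' : ∀ i, ∃ Z : HilbD.Obj f d (Over.mk (j i ≫ g)), (⟨j i ≫ g, Z⟩ : Fam f d (U i)) = z i := by
    intro i
    have : ∀ (w : U i ⟶ S) (_ : w = (z i).g), ∃ Z : HilbD.Obj f d (Over.mk w), (⟨w, Z⟩ : Fam f d (U i)) = z i := by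
      rintro _ rfl; exact ⟨_, rfl⟩
    exact this _ (hjg i)
  choose Z hZ using hz'
  have hcomp : ∀ i k, (Z i).1.comap (pullback.fst (m i) (m k)) = (Z k).1.comap (pullback.snd (m i) (m k)) := by
    intro i k
    let w : pullback (m i) (m k) ⟶ pullback (j i) (j k) :=
      pullback.map (m i) (m k) (j i) (j k) (pullback.snd f _) (pullback.snd f _) (pullback.snd f g)
        (HilbOne.XTmap_snd f (c i)) (HilbOne.XTmap_snd f (c k))
    let W := pullback (j i) (j k)
    let n : W ⟶ T := pullback.fst (j i) (j k) ≫ j i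
    have hn : pullback.snd (j i) (j k) ≫ j k = n := pullback.condition.symm
    let a : Over.mk (n ≫ g) ⟶ Over.mk (j i ≫ g) := Over.homMk (pullback.fst _ _) (Category.assoc _ _ _).symm
    let b : Over.mk (n ≫ g) ⟶ Over.mk (j k ≫ g) :=
      Over.homMk (pullback.snd _ _) ((Category.assoc _ _ _).symm.trans (congrArg (· ≫ g) hn))
    let φ : pullback (m i) (m k) ⟶ PicF.XT f (Over.mk (n ≫ g)) :=
      pullback.lift (pullback.fst (m i) (m k) ≫ pullback.fst f _) w (by
        rw [Category.assoc, pullback.condition, ← Category.assoc]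
        change (pullback.fst (m i) (m k) ≫ pullback.snd f _) ≫ j i ≫ g = w ≫ n ≫ g
        rw [← Category.assoc w, ← Category.assoc w,
          show w ≫ pullback.fst (j i) (j k) = pullback.fst (m i) (m k) ≫ pullback.snd f _ from pullback.lift_fst ..]
        simp only [Category.assoc]
        )
    have e1 : φ ≫ PicF.XTmap f a = pullback.fst (m i) (m k) := by
      apply pullback.hom_ext
      · rw [Category.assoc, HilbOne.XTmap_fst]; exact pullback.lift_fst ..
      · rw [Category.assoc, HilbOne.XTmap_snd, ← Category.assoc]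
        refine (congrArg (· ≫ pullback.fst (j i) (j k)) (pullback.lift_snd ..)).trans ?_
        exact pullback.lift_fst ..
    have e2 : φ ≫ PicF.XTmap f b = pullback.snd (m i) (m k) := by
      apply pullback.hom_ext
      · rw [Category.assoc, HilbOne.XTmap_fst]
        refine (pullback.lift_fst ..).trans ?_
        have := congrArg (· ≫ pullback.fst f g) (pullback.condition (f := m i) (g := m k))
        simp only [Category.assoc] at this
        rw [show m i ≫ pullback.fst f g = _ from HilbOne.XTmap_fst f (c i),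
          show m k ≫ pullback.fst f g = _ from HilbOne.XTmap_fst f (c k)] at this
        exact this
      · rw [Category.assoc, HilbOne.XTmap_snd, ← Category.assoc]
        refine (congrArg (· ≫ pullback.snd (j i) (j k)) (pullback.lift_snd ..)).trans ?_
        exact pullback.lift_snd ..
    have key := hz i k (pullback.fst (j i) (j k)) (pullback.snd _ _) pullback.condition
    rw [← hZ i, ← hZ k] at key
    have hab : HilbD.pull f a (Z i).1 = HilbD.pull f b (Z k).1 := by
      have hl : ∀ (w : W ⟶ S) (hw : pullback.fst (j i) (j k) ≫ j i ≫ g = w)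
          (a' : Over.mk w ⟶ Over.mk (j i ≫ g)) (_ : a'.left = pullback.fst (j i) (j k)),
          (⟨j i ≫ g, Z i⟩ : Fam f d (U i)).restr (pullback.fst (j i) (j k)) =
            ⟨w, ⟨HilbD.pull f a' (Z i).1, HilbOne.mem_pull f d _ _ (Z i).2⟩⟩ := by
        intro w hw a' ha'
        subst hw
        obtain rfl : a' = Over.homMk (pullback.fst (j i) (j k)) rfl := Over.OverMorphism.ext ha'
        rfl
      have hr : ∀ (w : W ⟶ S) (hw : pullback.snd (j i) (j k) ≫ j k ≫ g = w)
          (a' : Over.mk w ⟶ Over.mk (j k ≫ g)) (_ : a'.left = pullback.snd (j i) (j k)),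
          (⟨j k ≫ g, Z k⟩ : Fam f d (U k)).restr (pullback.snd (j i) (j k)) =
            ⟨w, ⟨HilbD.pull f a' (Z k).1, HilbOne.mem_pull f d _ _ (Z k).2⟩⟩ := by
        intro w hw a' ha'
        subst hw
        obtain rfl : a' = Over.homMk (pullback.snd (j i) (j k)) rfl := Over.OverMorphism.ext ha'
        rfl
      have e := (hl (n ≫ g) (Category.assoc _ _ _).symm a rfl).symm.trans
        (key.trans (hr (n ≫ g) (by rw [← Category.assoc, hn]) b rfl))
      simp only [Fam.mk.injEq, heq_eq_eq, true_and] at e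
      exact congrArg Subtype.val e
    rw [HilbOne.pull_eq_comap, HilbOne.pull_eq_comap] at hab
    rw [← e1, ← e2, Scheme.IdealSheafData.comap_comp, Scheme.IdealSheafData.comap_comp, hab]
  have hcv : Presieve.ofArrows Q m ∈ Scheme.fpqcPrecoverage (PicF.XT f (Over.mk g)) := by
    refine Scheme.zariskiPrecoverage_le_fpqcPrecoverage _ ?_
    rw [Scheme.ofArrows_mem_precoverage_iff]
    refine ⟨fun x => ?_, hm⟩
    obtain ⟨i, u, hu⟩ := hcov (pullback.snd f g x)
    obtain ⟨y, hy, -⟩ := Scheme.Pullback.exists_preimage_pullback x u hu.symm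
    obtain ⟨e, he⟩ : ∃ e : Q i ≅ pullback (pullback.snd f g) (j i), e.hom ≫ pullback.fst _ _ = m i :=
      ⟨(HilbOne.isPullback_XTmap f (c i)).isoPullback, IsPullback.isoPullback_hom_fst _⟩
    refine ⟨i, e.inv y, ?_⟩
    rw [← he, ← Scheme.Hom.comp_apply, Iso.inv_hom_id_assoc, hy]
  obtain ⟨J, hJ, hu⟩ := FpqcDescent.existsUnique_descent hcv (fun i => (Z i).1) hcomp
  have hmem : Mor2.IsFinLocFreeOfDeg d (J.subschemeι ≫ PicF.XTproj f (Over.mk g)) := by
    have hpb : ∀ i, ∃ a : (Z i).1.subscheme ⟶ J.subscheme,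
        IsPullback a ((Z i).1.subschemeι ≫ pullback.snd f (j i ≫ g)) (J.subschemeι ≫ pullback.snd f g) (j i) := by
      intro i
      have hp := ((IsPullback.of_hasPullback (m i) J.subschemeι).flip.paste_vert
        (HilbOne.isPullback_XTmap f (c i)))
      have key : ∀ (I : (Q i).IdealSheafData) (_ : I = J.comap (m i)),
          ∃ e : I.subscheme ≅ pullback (m i) J.subschemeι, e.hom ≫ pullback.fst _ _ = I.subschemeι := by
        rintro _ rfl
        exact ⟨J.comapIso (m i), Scheme.IdealSheafData.comapIso_hom_fst J (m i)⟩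
      obtain ⟨e, he⟩ := key _ (hJ i).symm
      refine ⟨e.hom ≫ pullback.snd _ _, ?_⟩
      refine IsPullback.of_iso hp e.symm (Iso.refl _) (Iso.refl _) (Iso.refl _) ?_ ?_ ?_ ?_
      · simp
      · simp only [Iso.refl_hom, Category.comp_id, Iso.symm_hom]
        rw [← he, Category.assoc, Iso.inv_hom_id_assoc]
        rfl
      · simp only [Iso.refl_hom, Category.comp_id, Category.id_comp]; rfl
      · simp only [Iso.refl_hom, Category.comp_id, Category.id_comp]; rfl
    choose a ha using hpb
    let P := J.subschemeι ≫ pullback.snd f g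
    have loc : ∀ {R : MorphismProperty Scheme.{u}} [IsZariskiLocalAtTarget R],
        (∀ i, R ((Z i).1.subschemeι ≫ pullback.snd f (j i ≫ g))) → R P := by
      intro R _ hR
      refine IsZariskiLocalAtTarget.of_openCover (P := R) 𝒰 fun i => ?_
      have e := (ha i).isoPullback_hom_snd
      have h' := hR i
      rw [← e] at h'
      exact (MorphismProperty.cancel_left_of_respectsIso R (ha i).isoPullback.hom (pullback.snd P (j i))).mp h'
    haveI : IsFinite P := loc fun i => (Z i).2.1.1
    haveI : Flat P := loc fun i => (Z i).2.1.2.1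
    haveI : LocallyOfFinitePresentation P := loc fun i => (Z i).2.1.2.2
    refine ⟨⟨‹_›, ‹_›, ‹_›⟩, fun t => ?_⟩
    obtain ⟨i, u, rfl⟩ := hcov t
    exact (Scheme.Hom.finrank_of_isPullback _ _ _ _ (ha i) u).symm.trans ((Z i).2.2 u)
  refine ⟨⟨g, ⟨J, hmem⟩⟩, fun i => ?_, ?_⟩
  · rw [← hZ i]
    exact Fam.ext_ideal ((Fam.restr_ideal (⟨g, ⟨J, hmem⟩⟩ : Fam f d T) (j i)).trans (hJ i))
  · rintro ⟨g', J', hJ'⟩ hi
    obtain rfl : g' = g := Scheme.Cover.hom_ext 𝒰 _ _ fun i => (congrArg Fam.g (hi i)).trans (hjg i).symm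
    refine Fam.ext_ideal (hu J' fun i => ?_)
    have := (hi i).trans (hZ i).symm
    have h1 := Fam.restr_ideal (⟨g, ⟨J', hJ'⟩⟩ : Fam f d T) (j i)
    have h2 : ((⟨g, ⟨J', hJ'⟩⟩ : Fam f d T).restr (j i)).Z = Z i := by
      simpa [Fam.restr] using this
    exact h1.symm.trans (congrArg Subtype.val h2)

variable (f d)

theorem isSheaf : Presieve.IsSheaf Scheme.zariskiTopology (functor f d) := by
  refine (Precoverage.isSheaf_toGrothendieck_iff_of_isStableUnderBaseChange_of_small.{u} _).mpr fun T E => ?_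
  rw [PreZeroHypercover.presieve₀, Presieve.isSheafFor_arrows_iff]
  intro x hx
  obtain ⟨hc, ho⟩ := (Scheme.ofArrows_mem_precoverage_iff _).mp E.mem₀
  haveI : ∀ i, IsOpenImmersion (E.f i) := ho
  exact existsUnique_glue E.f hc x fun i k W a b hab => hx i k W a b hab

end Groth.Agent.HilbRep
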