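import Mathlib
import Groth.Agent.HilbRep.Sheaf
import Groth.Agent.HilbRep.Good
import Groth.Agent.HilbRep.ChartRing

/-!
# The universal family over a chart and classifying morphisms
-/

set_option autoImplicit false
set_option maxSynthPendingDepth 3
universe u

open CategoryTheory CategoryTheory.Limits AlgebraicGeometry Opposite

noncomputable section

namespace Groth.Agent.HilbRep

/-- The morphism to an affine scheme attached to a map into global functions. -/
def toSpec {T : Scheme.{u}} {A₀ : CommRingCat.{u}} (χ : A₀ ⟶ Γ(T, ⊤)) : T ⟶ Spec A₀ :=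
  T.toSpecΓ ≫ Spec.map χ

theorem appTop_toSpec {T : Scheme.{u}} {A₀ : CommRingCat.{u}} (χ : A₀ ⟶ Γ(T, ⊤)) :
    (toSpec χ).appTop = (Scheme.ΓSpecIso A₀).hom ≫ χ := by
  simp [toSpec]

theorem toSpec_inj {T : Scheme.{u}} {A₀ : CommRingCat.{u}} {χ χ' : A₀ ⟶ Γ(T, ⊤)} (h : toSpec χ = toSpec χ') :
    χ = χ' := by
  have := congrArg Scheme.Hom.appTop h
  rwa [appTop_toSpec, appTop_toSpec, cancel_epi] at this

theorem exists_toSpec {T : Scheme.{u}} {A₀ : CommRingCat.{u}} (h : T ⟶ Spec A₀) :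
    ∃ χ : A₀ ⟶ Γ(T, ⊤), h = toSpec χ := by
  refine ⟨(Scheme.ΓSpecIso A₀).inv ≫ h.appTop, ?_⟩
  rw [toSpec, Spec.map_comp, ← Scheme.toSpecΓ_naturality_assoc, ← SpecMap_ΓSpecIso_hom, ← Spec.map_comp,
    Iso.inv_hom_id, Spec.map_id, Category.comp_id]

theorem comp_toSpec {T T' : Scheme.{u}} {A₀ : CommRingCat.{u}} (a : T' ⟶ T) (χ : A₀ ⟶ Γ(T, ⊤)) :
    a ≫ toSpec χ = toSpec (χ ≫ a.appTop) := by
  rw [toSpec, toSpec, Spec.map_comp, Scheme.toSpecΓ_naturality_assoc]

theorem toSpec_map {T : Scheme.{u}} {A₀ A₁ : CommRingCat.{u}} (χ : A₀ ⟶ Γ(T, ⊤)) (φ : A₁ ⟶ A₀) :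
    toSpec χ ≫ Spec.map φ = toSpec (φ ≫ χ) := by
  rw [toSpec, toSpec, Category.assoc, Spec.map_comp]

theorem eq_toSpec_fromSpec {T Y : Scheme.{u}} [IsAffine T] (q : T ⟶ Y) {U : Y.Opens} (hU : IsAffineOpen U)
    (e : (⊤ : T.Opens) ≤ q ⁻¹ᵁ U) : q = toSpec (q.appLE U ⊤ e) ≫ hU.fromSpec := by
  rw [toSpec, Category.assoc, IsAffineOpen.SpecMap_appLE_fromSpec q hU (isAffineOpen_top T) e, IsAffineOpen.fromSpec_top,
    ← Category.assoc, ← Scheme.isoSpec_hom, Iso.hom_inv_id, Category.id_comp]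

variable {X S : Scheme.{u}} {f : X ⟶ S} {d : ℕ} [IsSeparated f]

namespace ChartData

variable (c : ChartData f d)

/-- `Γ(X, U)` as a `Γ(S, V)`-algebra. -/
instance algebraB : Algebra Γ(S, c.V) Γ(X, c.U) := (f.appLE c.V c.U c.le).hom.toAlgebra

/-- The chart scheme. -/
abbrev scheme : Scheme.{u} := Spec (CommRingCat.of (ChartRing Γ(S, c.V) Γ(X, c.U) c.b))

/-- Its map to `S`. -/
def toBase : c.scheme ⟶ S :=
  Spec.map (CommRingCat.ofHom (algebraMap Γ(S, c.V) (ChartRing Γ(S, c.V) Γ(X, c.U) c.b))) ≫ c.hV.fromSpec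

/-- Projection of the universal family. -/
def uP : Spec (CommRingCat.of (ChartAlg (R := Γ(S, c.V)) c.b)) ⟶ c.scheme :=
  Spec.map (CommRingCat.ofHom (chartTheta (R := Γ(S, c.V)) c.b))

/-- The map of the universal family to `X`. -/
def uQ : Spec (CommRingCat.of (ChartAlg (R := Γ(S, c.V)) c.b)) ⟶ X :=
  Spec.map (CommRingCat.ofHom (chartPsi (R := Γ(S, c.V)) c.b)) ≫ c.hU.fromSpec

theorem uQ_f : c.uQ ≫ f = c.uP ≫ c.toBase := by
  rw [uQ, uP, toBase, Category.assoc, ← IsAffineOpen.SpecMap_appLE_fromSpec f c.hV c.hU c.le, ← Spec.map_comp_assoc,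
    ← Spec.map_comp_assoc]
  congr 2
  ext r
  exact chartPsi_algebraMap c.b r

theorem uP_mem : Mor2.IsFinLocFreeOfDeg d c.uP := by
  let R := Γ(S, c.V)
  let A := ChartRing R Γ(X, c.U) c.b
  let L : (Fin d → A) ≃ₗ[A] ChartAlg (R := R) c.b :=
    { Equiv.ofBijective _ (chart_bijective c.b) with
      map_add' := fun a a' => by simp [add_mul, Finset.sum_add_distrib]
      map_smul' := fun r a => by
        have hsm : ∀ (r : A) (x : ChartAlg (R := R) c.b), r • x = chartTheta (R := R) c.b r * x := fun r x => by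
          obtain ⟨x, rfl⟩ := Ideal.Quotient.mk_surjective x
          change Ideal.Quotient.mk _ (r • x) = _
          rw [Algebra.smul_def, map_mul]
          rfl
        simp [hsm, Finset.mul_sum, mul_assoc] }
  haveI : Module.Finite A (ChartAlg (R := R) c.b) := Module.Finite.equiv L
  haveI : Module.Free A (ChartAlg (R := R) c.b) := Module.Free.of_equiv L
  have h1 : (chartTheta (R := R) c.b).Finite :=
    RingHom.finite_algebraMap.mpr (inferInstanceAs (Module.Finite A (ChartAlg (R := R) c.b)))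
  have h2 : (chartTheta (R := R) c.b).Flat :=
    RingHom.flat_algebraMap_iff.mpr (inferInstanceAs (Module.Flat A (ChartAlg (R := R) c.b)))
  haveI : Module.FinitePresentation A (ChartAlg (R := R) c.b) := Module.finitePresentation_of_projective A _
  have h3 : (chartTheta (R := R) c.b).FinitePresentation :=
    RingHom.finitePresentation_algebraMap.mpr (Algebra.FinitePresentation.of_finitePresentation _ _)
  refine ⟨⟨(IsFinite.SpecMap_iff (f := CommRingCat.ofHom _)).mpr h1, (Flat.SpecMap_iff (f := CommRingCat.ofHom _)).mpr h2,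
    (HasRingHomProperty.Spec_iff (P := @LocallyOfFinitePresentation)).mpr h3⟩, fun y => ?_⟩
  rw [uP, Scheme.Hom.finrank_SpecMap_eq_finrank h1 h2, CommRingCat.hom_ofHom,
    show chartTheta (R := R) c.b = algebraMap A (ChartAlg (R := R) c.b) from rfl, RingHom.finrank_algebraMap]
  haveI : Nontrivial A := PrimeSpectrum.nontrivial y
  rw [Module.rankAtStalk_eq_finrank_of_free]
  change Module.finrank A (ChartAlg (R := R) c.b) = d
  rw [← L.finrank_eq]
  simp

instance uP_finite : IsFinite c.uP := c.uP_mem.1.1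

theorem mono_lift : Mono (pullback.lift c.uQ c.uP c.uQ_f) := by
  refine ⟨fun {Y} a a' h => ?_⟩
  have hp := congrArg (· ≫ pullback.snd f c.toBase) h
  have hq := congrArg (· ≫ pullback.fst f c.toBase) h
  simp only [Category.assoc, pullback.lift_snd, pullback.lift_fst] at hp hq
  obtain ⟨χ, rfl⟩ := exists_toSpec a
  obtain ⟨χ', rfl⟩ := exists_toSpec a'
  rw [uQ, ← Category.assoc, ← Category.assoc, cancel_mono, toSpec_map, toSpec_map] at hq
  rw [uP, toSpec_map, toSpec_map] at hp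
  have hp' := toSpec_inj hp
  have hq' := toSpec_inj hq
  refine congrArg toSpec (CommRingCat.hom_ext (RingHom.ext fun z => ?_))
  obtain ⟨v, rfl⟩ := (chart_bijective (R := Γ(S, c.V)) c.b).2 z
  simp only [map_sum, map_mul]
  refine Finset.sum_congr rfl fun i _ => congrArg₂ _ ?_ ?_
  · exact congrArg (fun φ : _ ⟶ Γ(Y, ⊤) => φ.hom (v i)) hp'
  · exact congrArg (fun φ : _ ⟶ Γ(Y, ⊤) => φ.hom (c.b i)) hq'

instance isClosedImmersion_lift : IsClosedImmersion (pullback.lift c.uQ c.uP c.uQ_f) := by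
  haveI : IsFinite (pullback.lift c.uQ c.uP c.uQ_f ≫ pullback.snd f c.toBase) := by
    rw [pullback.lift_snd]; infer_instance
  haveI := c.mono_lift
  exact (IsClosedImmersion.iff_isFinite_and_mono _).mpr ⟨IsFinite.of_comp _ (pullback.snd f c.toBase), inferInstance⟩

/-- The universal family. -/
def univ : Fam f d c.scheme := Fam.ofPair c.toBase c.uP c.uQ c.uQ_f c.uP_mem

theorem univ_g : c.univ.g = c.toBase := rfl

theorem exists_univIso : ∃ e : Spec (CommRingCat.of (ChartAlg (R := Γ(S, c.V)) c.b)) ≅ c.univ.sch,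
    e.hom ≫ c.univ.p = c.uP ∧ e.hom ≫ c.univ.q = c.uQ :=
  Fam.exists_iso_ofPair c.toBase c.uP c.uQ c.uQ_f c.uP_mem

end ChartData

variable {c : ChartData f d}

theorem toBase_top : (⊤ : c.scheme.Opens) ≤ c.toBase ⁻¹ᵁ c.V := fun x _ => by
  change c.toBase x ∈ c.V
  rw [ChartData.toBase, Scheme.Hom.comp_apply]
  exact c.hV.opensRange_fromSpec.le ⟨_, rfl⟩

theorem good_univ (c : ChartData f d) : GoodAff c c.univ := by
  obtain ⟨e, hp, hq⟩ := c.exists_univIso
  let C := CommRingCat.of (ChartAlg (R := Γ(S, c.V)) c.b)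
  let A := CommRingCat.of (ChartRing Γ(S, c.V) Γ(X, c.U) c.b)
  let θc : A ⟶ C := CommRingCat.ofHom (chartTheta (R := Γ(S, c.V)) c.b)
  let ψc : Γ(X, c.U) ⟶ C := CommRingCat.ofHom (chartPsi (R := Γ(S, c.V)) c.b)
  let ι : C ⟶ Γ(c.univ.sch, ⊤) := (Scheme.ΓSpecIso C).inv ≫ e.inv.appTop
  haveI : IsIso e.inv.appTop := inferInstanceAs (IsIso (Scheme.Γ.map e.inv.op))
  haveI : IsIso ι := inferInstanceAs (IsIso ((Scheme.ΓSpecIso C).inv ≫ e.inv.appTop))
  have he : e.inv = toSpec ι := by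
    obtain ⟨χ, hχ⟩ := exists_toSpec (A₀ := C) e.inv
    change e.inv = toSpec ((Scheme.ΓSpecIso C).inv ≫ e.inv.appTop)
    rw [hχ, appTop_toSpec, Iso.inv_hom_id_assoc]
  have hp' : c.univ.p = toSpec (θc ≫ ι) := by
    rw [← toSpec_map, ← he, ← show e.hom ≫ c.univ.p = Spec.map θc from hp]
    exact (e.inv_hom_id_assoc _).symm
  have hq' : c.univ.q = toSpec (ψc ≫ ι) ≫ c.hU.fromSpec := by
    rw [← toSpec_map, ← he, Category.assoc, ← show e.hom ≫ c.univ.q = Spec.map ψc ≫ c.hU.fromSpec from hq]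
    exact (e.inv_hom_id_assoc _).symm
  have qU : (⊤ : c.univ.sch.Opens) ≤ c.univ.q ⁻¹ᵁ c.U := fun x _ => by
    change c.univ.q x ∈ c.U
    rw [hq', Scheme.Hom.comp_apply]
    exact c.hU.opensRange_fromSpec.le ⟨_, rfl⟩
  refine ⟨toBase_top, qU, ?_⟩
  have hψ : c.univ.q.appLE c.U ⊤ qU = ψc ≫ ι := by
    apply toSpec_inj (T := c.univ.sch)
    rw [← cancel_mono c.hU.fromSpec, ← eq_toSpec_fromSpec, hq']
  have hθ : c.univ.p.appTop = (Scheme.ΓSpecIso A).hom ≫ θc ≫ ι := by rw [hp', appTop_toSpec]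
  rw [hψ, hθ]
  have hι : Function.Bijective ι.hom := ConcreteCategory.bijective_of_isIso ι
  have hA : Function.Bijective (Scheme.ΓSpecIso A).hom.hom := ConcreteCategory.bijective_of_isIso _
  have h := (hι.comp (chart_bijective (R := Γ(S, c.V)) c.b)).comp
    (Function.Bijective.piMap fun _ : Fin d => hA)
  convert h using 1
  funext a
  simp only [Function.comp_apply, map_sum, map_mul, Pi.map_apply]
  rfl

/-- Classifying morphisms of good families on affines. -/
theorem existsUnique_classify_affine {T : Scheme.{u}} [IsAffine T] {z : Fam f d T} (hz : GoodAff c z) :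
    ∃! h : T ⟶ c.scheme, c.univ.restr h = z := by
  obtain ⟨e, hep, heq⟩ := c.exists_univIso
  let α := z.g.appLE c.V ⊤ hz.gV
  let θ := z.p.appTop
  let ψ := z.q.appLE c.U ⊤ hz.qU
  have hg : z.g = toSpec α ≫ c.hV.fromSpec := eq_toSpec_fromSpec z.g c.hV hz.gV
  have hq : z.q = toSpec ψ ≫ c.hU.fromSpec := eq_toSpec_fromSpec z.q c.hU hz.qU
  have hψ : f.appLE c.V c.U c.le ≫ ψ = α ≫ θ := by
    apply toSpec_inj (T := z.sch)
    rw [← toSpec_map, ← comp_toSpec, ← cancel_mono c.hV.fromSpec, Category.assoc, Category.assoc,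
      IsAffineOpen.SpecMap_appLE_fromSpec f c.hV c.hU c.le, ← reassoc_of% hq, ← hg, z.q_f]
  obtain ⟨χ, τ, hχ, h₁, h₂⟩ := exists_classify (R := Γ(S, c.V)) c.b α.hom θ.hom ψ.hom
    (fun r => congrArg (fun φ : _ ⟶ Γ(z.sch, ⊤) => φ.hom r) hψ) hz.bij
  refine ⟨toSpec (CommRingCat.ofHom χ), ?_, ?_⟩
  · refine (c.univ.eq_restr _ ?_ (toSpec (CommRingCat.ofHom τ) ≫ e.hom) ?_ ?_).symm
    · rw [c.univ_g, ChartData.toBase, ← Category.assoc, toSpec_map, hg]
      congr 2
      exact CommRingCat.hom_ext hχ.symm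
    · have hbij := hz.bij
      have e₂ : ∀ i, τ (chartPsi (R := Γ(S, c.V)) c.b (c.b i)) = ψ.hom (c.b i) := fun i => RingHom.congr_fun h₂ _
      have hpo := isPushout_of_basis χ (chartTheta (R := Γ(S, c.V)) c.b) θ.hom τ h₁ _
        (chart_bijective c.b) (by simp only [e₂]; exact hbij)
      have hpb := isPullback_SpecMap_of_isPushout _ _ _ _ hpo
      refine IsPullback.of_iso hpb.flip z.sch.isoSpec.symm e T.isoSpec.symm (Iso.refl _) ?_ ?_ ?_ ?_
      · simp only [Iso.symm_hom, toSpec, Category.assoc, ← Scheme.isoSpec_hom, Iso.inv_hom_id_assoc]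
        rfl
      · simp only [Iso.symm_hom, CommRingCat.ofHom_hom]
        rw [← cancel_epi z.sch.isoSpec.hom, ← Category.assoc, Scheme.isoSpec_hom_naturality, Category.assoc,
          Iso.hom_inv_id, Category.comp_id, Iso.hom_inv_id_assoc]
      · simp only [Iso.refl_hom, Category.comp_id]; exact hep.symm
      · simp only [Iso.symm_hom, Iso.refl_hom, Category.comp_id, toSpec, ← Scheme.isoSpec_hom, Iso.inv_hom_id_assoc]
    · rw [Category.assoc, heq, ChartData.uQ, ← Category.assoc, toSpec_map, hq]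
      congr 2
      exact CommRingCat.hom_ext h₂
  · intro h' hh'
    obtain ⟨χ', rfl⟩ := exists_toSpec h'
    obtain ⟨a, hpb, hqa⟩ := c.univ.exists_isPullback_restr (toSpec χ')
    have hgeq : toSpec χ' ≫ c.toBase = z.g := congrArg Fam.g hh'
    obtain ⟨a', ha₁, ha₂⟩ : ∃ a' : z.sch ⟶ c.univ.sch, a' ≫ c.univ.p = z.p ≫ toSpec χ' ∧ a' ≫ c.univ.q = z.q := by
      rw [← hh']
      exact ⟨a, hpb.w, hqa⟩
    obtain ⟨τ', hτ'⟩ := exists_toSpec (a' ≫ e.inv)
    have ha : a' = toSpec τ' ≫ e.hom := by rw [← hτ', Category.assoc, Iso.inv_hom_id, Category.comp_id]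
    rw [ha, Category.assoc, hep, ChartData.uP, toSpec_map, comp_toSpec] at ha₁
    rw [ha, Category.assoc, heq, ChartData.uQ, ← Category.assoc, toSpec_map, hq, cancel_mono] at ha₂
    rw [ChartData.toBase, ← Category.assoc, toSpec_map, hg, cancel_mono] at hgeq
    have e1 := congrArg CommRingCat.Hom.hom (toSpec_inj ha₁)
    have e2 := congrArg CommRingCat.Hom.hom (toSpec_inj ha₂)
    have e3 := congrArg CommRingCat.Hom.hom (toSpec_inj hgeq)
    exact congrArg toSpec (CommRingCat.hom_ext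
      (classify_unique c.b α.hom θ.hom ψ.hom χ'.hom χ e3 hχ τ'.hom τ e1 e2 h₁ h₂ hz.bij.1))

/-- Classifying morphisms of families everywhere good. -/
theorem existsUnique_classify {T : Scheme.{u}} (z : Fam f d T) (hz : ∀ t : T, t ∈ goodLocus c z) :
    ∃! h : T ⟶ c.scheme, c.univ.restr h = z := by
  choose W j hj hW hmem hgood using hz
  haveI := hj
  let 𝒰 : T.OpenCover := Scheme.Cover.mkOfCovers T W j fun t => ⟨t, hmem t⟩
  haveI : ∀ t, IsAffine (W t) := hW
  choose k hk huk using fun t => existsUnique_classify_affine (hgood t)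
  have hcompat : ∀ s t, pullback.fst (j s) (j t) ≫ k s = pullback.snd (j s) (j t) ≫ k t := by
    intro s t
    refine (pullback (j s) (j t)).affineCover.hom_ext _ _ fun i => ?_
    let P := (pullback (j s) (j t)).affineCover
    haveI : IsAffine (P.X i) := inferInstanceAs (IsAffine (Spec _))
    have hg := (hgood s).restr (P.f i ≫ pullback.fst (j s) (j t))
    refine (existsUnique_classify_affine hg).unique ?_ ?_
    · rw [← Category.assoc, ← Fam.restr_restr, hk s]
    · rw [← Category.assoc, ← Fam.restr_restr, hk t, Fam.restr_restr, Fam.restr_restr, Category.assoc,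
        Category.assoc, ← pullback.condition]
  have key : ∀ h : T ⟶ c.scheme, (∀ t, j t ≫ h = k t) → c.univ.restr h = z := fun h hh => by
    refine (existsUnique_glue j (fun t => ⟨t, hmem t⟩) (fun t => z.restr (j t)) (fun a b _ u v huv => by
      rw [Fam.restr_restr, Fam.restr_restr, huv])).unique (fun t => ?_) (fun t => rfl)
    rw [Fam.restr_restr, hh, hk]
  refine ⟨𝒰.glueMorphisms k hcompat, key _ (fun t => 𝒰.ι_glueMorphisms k hcompat t), fun h hh => ?_⟩
  refine 𝒰.hom_ext _ _ fun t => ?_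
  rw [𝒰.ι_glueMorphisms k hcompat t]
  refine huk t _ ?_
  change c.univ.restr (j t ≫ h) = z.restr (j t)
  rw [← Fam.restr_restr, hh]

end Groth.Agent.HilbRep
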