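import Mathlib
import Groth.Agent.HilbRep.Chart
import Groth.Agent.Grpd.InvAffine

/-!
# The good locus is detected after base change, and charts cover
-/

set_option autoImplicit false
universe u

open CategoryTheory CategoryTheory.Limits AlgebraicGeometry Opposite

noncomputable section

namespace Groth.Agent.HilbRep

variable {X S : Scheme.{u}} {f : X ⟶ S} {d : ℕ} {c : ChartData f d} {T T' : Scheme.{u}}

/-- The image of the good locus of a base change lies in the good locus. -/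
theorem mem_goodLocus_image (z : Fam f d T) (h : T' ⟶ T) {t' : T'} (ht : t' ∈ goodLocus c (z.restr h)) :
    h t' ∈ goodLocus c z := by
  obtain ⟨W', k, hk, hW', ⟨w, rfl⟩, hg⟩ := ht
  rw [Fam.restr_restr] at hg
  rw [← Scheme.Hom.comp_apply]
  haveI := hW'
  obtain ⟨a, hpb, hq⟩ := z.exists_isPullback_restr (k ≫ h)
  have hgt : z.g ((k ≫ h) w) ∈ c.V := hg.gV (x := w) trivial
  have hfib : ∀ x, z.p x = (k ≫ h) w → z.q x ∈ c.U := by
    intro x hx
    obtain ⟨y, hy, -⟩ := Scheme.Pullback.exists_preimage_pullback x w hx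
    have := hg.qU (x := hpb.isoPullback.inv y) trivial
    change (z.restr (k ≫ h)).q (hpb.isoPullback.inv y) ∈ c.U at this
    rw [← hq, ← Scheme.Hom.comp_apply, ← Category.assoc, hpb.isoPullback_inv_fst, Scheme.Hom.comp_apply, hy] at this
    exact this
  obtain ⟨W, hW, htW, hgV, hqU⟩ := exists_shrink z _ hgt hfib
  haveI : IsAffine W.toScheme := hW
  obtain ⟨W₂, hW₂, hw₂, hle⟩ := exists_isAffineOpen_mem_and_subset (X := W') (x := w)
    (U := (k ≫ h) ⁻¹ᵁ W) htW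
  haveI : IsAffine W₂.toScheme := hW₂
  let l : W₂.toScheme ⟶ W.toScheme := IsOpenImmersion.lift W.ι (W₂.ι ≫ k ≫ h) (by
    rintro _ ⟨x, rfl⟩
    exact ⟨⟨_, hle x.2⟩, rfl⟩)
  have hl : l ≫ W.ι = W₂.ι ≫ k ≫ h := IsOpenImmersion.lift_fac _ _ _
  have hgood : GoodAff c ((z.restr W.ι).restr l) := by
    rw [Fam.restr_restr, hl, ← Fam.restr_restr]
    exact hg.restr W₂.ι
  have := map_goodLocus z W.ι (mem_goodLocus_of_restr (z.restr W.ι) hgV hqU l hgood ⟨w, hw₂⟩)
  rw [← Scheme.Hom.comp_apply, hl] at this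
  exact this

/-- Over an affine base, `Γ(X, U)` generates the functions of a family as a module. -/
theorem span_range_eq_top [IsAffine T] (z : Fam f d T) {U : X.Opens} (hU : IsAffineOpen U)
    (hqU : (⊤ : z.sch.Opens) ≤ z.q ⁻¹ᵁ U) :
    letI := z.p.appTop.hom.toAlgebra
    Submodule.span Γ(T, ⊤) (Set.range (z.q.appLE U ⊤ hqU).hom) = ⊤ := by
  letI := z.p.appTop.hom.toAlgebra
  haveI := (module_of_fam z).1
  let ψ := z.q.appLE U ⊤ hqU
  let S₀ : Subalgebra Γ(T, ⊤) Γ(z.sch, ⊤) := Algebra.adjoin Γ(T, ⊤) (Set.range ψ.hom)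
  let ι₀ : CommRingCat.of S₀ ⟶ Γ(z.sch, ⊤) := CommRingCat.ofHom S₀.val.toRingHom
  haveI : Epi ι₀ := by
    refine ⟨fun {D} g g' hgg => ?_⟩
    have key : ∀ x ∈ S₀, g.hom x = g'.hom x := fun x hx =>
      congrArg (fun φ : CommRingCat.of S₀ ⟶ D => φ.hom ⟨x, hx⟩) hgg
    have h1 : ψ ≫ g = ψ ≫ g' := by
      ext b
      exact key _ (Algebra.subset_adjoin ⟨b, rfl⟩)
    have h2 : z.p.appTop ≫ g = z.p.appTop ≫ g' := by
      ext a
      exact key _ (S₀.algebraMap_mem a)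
    have hp : ∀ g : Γ(z.sch, ⊤) ⟶ D, (Spec.map g ≫ z.sch.isoSpec.inv) ≫ z.p =
        Spec.map (z.p.appTop ≫ g) ≫ T.isoSpec.inv := fun g => by
      rw [Category.assoc, ← cancel_mono T.isoSpec.hom, Category.assoc, Category.assoc, Category.assoc,
        Iso.inv_hom_id, Category.comp_id, ← Scheme.isoSpec_hom_naturality, Iso.inv_hom_id_assoc, Spec.map_comp]
    have hq : ∀ g : Γ(z.sch, ⊤) ⟶ D, (Spec.map g ≫ z.sch.isoSpec.inv) ≫ z.q =
        Spec.map (ψ ≫ g) ≫ hU.fromSpec := fun g => by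
      rw [eq_toSpec_fromSpec z.q hU hqU, toSpec, ← Scheme.isoSpec_hom, Category.assoc, Category.assoc,
        Iso.inv_hom_id_assoc, Spec.map_comp, Category.assoc]
    have : (Spec.map g ≫ z.sch.isoSpec.inv) ≫ pullback.lift z.q z.p z.q_f =
        (Spec.map g' ≫ z.sch.isoSpec.inv) ≫ pullback.lift z.q z.p z.q_f := by
      apply pullback.hom_ext
      · simp only [Category.assoc, pullback.lift_fst]
        rw [← Category.assoc, ← Category.assoc, hq, hq, h1]
      · simp only [Category.assoc, pullback.lift_snd]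
        rw [← Category.assoc, ← Category.assoc, hp, hp, h2]
    rw [cancel_mono, cancel_mono] at this
    exact Spec.map_injective this
  have hfin : ι₀.hom.Finite := by
    change (S₀.val.toRingHom).Finite
    haveI : Module.Finite S₀ Γ(z.sch, ⊤) := Module.Finite.of_restrictScalars_finite Γ(T, ⊤) _ _
    exact RingHom.finite_algebraMap.mpr this
  have hsurj := RingHom.surjective_of_epi_of_finite ι₀ hfin
  have htop : S₀ = ⊤ := eq_top_iff.mpr fun x _ => by
    obtain ⟨y, rfl⟩ := hsurj x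
    exact y.2
  have := Algebra.adjoin_eq_span Γ(T, ⊤) (Set.range ψ.hom)
  rw [show Algebra.adjoin Γ(T, ⊤) (Set.range ψ.hom) = ⊤ from htop, Algebra.top_toSubmodule,
    show Submonoid.closure (Set.range ψ.hom) = MonoidHom.mrange ψ.hom.toMonoidHom from
      Submonoid.closure_eq (MonoidHom.mrange ψ.hom.toMonoidHom)] at this
  exact this.symm

/-- Every point of a family lies in the good locus of some chart. -/
theorem exists_chart
    (hX : ∀ (s : S) (x : Fin d → X), (∀ i, f.base (x i) = s) → ∃ U : X.Opens, IsAffineOpen U ∧ ∀ i, x i ∈ U)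
    (z : Fam f d T) (t : T) : ∃ c : ChartData f d, t ∈ goodLocus c z := by
  classical
  obtain ⟨V, hV, htV, -⟩ := exists_isAffineOpen_mem_and_subset (X := S) (x := z.g t) (U := ⊤) trivial
  obtain ⟨W₁, hW₁, htW₁, hW₁V⟩ := exists_isAffineOpen_mem_and_subset (X := T) (x := t) (U := z.g ⁻¹ᵁ V) htV
  haveI : IsAffine W₁.toScheme := hW₁
  let z₁ := z.restr W₁.ι
  suffices h : ∃ c : ChartData f d, (⟨t, htW₁⟩ : W₁.toScheme) ∈ goodLocus c z₁ by
    obtain ⟨c, hc⟩ := h
    exact ⟨c, map_goodLocus z W₁.ι hc⟩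
  generalize ht₁ : (⟨t, htW₁⟩ : W₁.toScheme) = t₁
  have htV₁ : z₁.g t₁ ∈ V := by rw [← ht₁]; exact htV
  -- the fibre
  let F : Set z₁.sch := z₁.p ⁻¹' {t₁}
  have hF : F.Finite := z₁.p.finite_preimage_singleton t₁
  have hcard : hF.toFinset.card ≤ d := by
    letI := z₁.p.appTop.hom.toAlgebra
    obtain ⟨h1, h2, h3⟩ := module_of_fam z₁
    haveI := h1
    haveI := h2
    have hinj : Function.Injective z₁.sch.isoSpec.hom := z₁.sch.isoSpec.hom.homeomorph.injective
    rw [← Finset.card_image_of_injective _ hinj]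
    refine card_le_of_comap_eq h3 (W₁.toScheme.isoSpec.hom t₁) _ fun Q hQ => ?_
    obtain ⟨x, hx, rfl⟩ := Finset.mem_image.mp hQ
    rw [Set.Finite.mem_toFinset] at hx
    have : z₁.p x = t₁ := hx
    rw [← this, ← Scheme.Hom.comp_apply, ← Scheme.isoSpec_hom_naturality]
    rfl
  have hqF : ∀ x ∈ F, f (z₁.q x) = z₁.g t₁ := fun x hx => by
    rw [← Scheme.Hom.comp_apply, z₁.q_f, Scheme.Hom.comp_apply]
    exact congrArg _ hx
  obtain ⟨U₀, hU₀, hFU₀⟩ : ∃ U₀ : X.Opens, IsAffineOpen U₀ ∧ ∀ x ∈ F, z₁.q x ∈ U₀ := by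
    rcases hF.toFinset.eq_empty_or_nonempty with he | ⟨x₀, hx₀⟩
    · refine ⟨⊥, isAffineOpen_bot X, fun x hx => ?_⟩
      have := hF.mem_toFinset.mpr hx
      rw [he] at this
      simp at this
    · let l := hF.toFinset.toList
      let xs : Fin d → X := fun i => z₁.q (l.getD i x₀)
      have hmem : ∀ i : Fin d, l.getD i x₀ ∈ F := fun i => by
        rw [List.getD_eq_getElem?_getD]
        rcases lt_or_ge (i : ℕ) l.length with hi | hi
        · rw [List.getElem?_eq_getElem hi]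
          exact hF.mem_toFinset.mp (Finset.mem_toList.mp (List.getElem_mem hi))
        · rw [List.getElem?_eq_none hi]
          exact hF.mem_toFinset.mp hx₀
      obtain ⟨U, hU, hxU⟩ := hX (z₁.g t₁) xs fun i => hqF _ (hmem i)
      refine ⟨U, hU, fun x hx => ?_⟩
      obtain ⟨n, hn, hxn⟩ := List.getElem_of_mem (Finset.mem_toList.mpr (hF.mem_toFinset.mpr hx))
      have hnd : n < d := lt_of_lt_of_le hn ((Finset.length_toList _).le.trans hcard)
      have := hxU ⟨n, hnd⟩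
      simp only [xs, List.getD_eq_getElem?_getD, List.getElem?_eq_getElem hn, Option.getD_some, l] at this
      rwa [← hxn]
  haveI : IsAffine U₀.toScheme := hU₀
  obtain ⟨r, hr, hEr⟩ := GrpdLib.exists_basicOpen_of_finite (X := U₀.toScheme) (U₀.ι ⁻¹ᵁ (f ⁻¹ᵁ V))
    (E := U₀.ι ⁻¹' (z₁.q '' F)) ((hF.image _).preimage U₀.ι.isOpenEmbedding.injective.injOn) (fun y hy => by
      obtain ⟨x, hx, hxy⟩ := hy
      change f (U₀.ι y) ∈ V
      rw [← hxy, hqF x hx]
      exact htV₁)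
  let U : X.Opens := U₀.ι ''ᵁ U₀.toScheme.basicOpen r
  have hU : IsAffineOpen U := ((isAffineOpen_top U₀.toScheme).basicOpen r).image_of_isOpenImmersion U₀.ι
  have hle : U ≤ f ⁻¹ᵁ V := by
    rintro _ ⟨y, hy, rfl⟩
    exact hr hy
  have hFU : ∀ x, z₁.p x = t₁ → z₁.q x ∈ U := fun x hx => by
    obtain ⟨y, hy⟩ : z₁.q x ∈ Set.range U₀.ι := ⟨⟨_, hFU₀ x hx⟩, rfl⟩
    exact ⟨y, hEr (show U₀.ι y ∈ z₁.q '' F from ⟨x, hx, hy.symm⟩), hy⟩
  let c₀ : ChartData f d := ⟨V, hV, U, hU, hle, fun _ => 0⟩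
  obtain ⟨W, hW, htW, hgV, hqU⟩ := exists_shrink (c := c₀) z₁ t₁ htV₁ hFU
  haveI : IsAffine W.toScheme := hW
  let z₂ := z₁.restr W.ι
  letI := z₂.p.appTop.hom.toAlgebra
  obtain ⟨h1, h2, h3⟩ := module_of_fam z₂
  haveI := h1
  haveI := h2
  obtain ⟨b, hb⟩ := exists_family h3 _ (span_range_eq_top z₂ hU hqU) (W.toScheme.isoSpec.hom ⟨t₁, htW⟩)
  exact ⟨⟨V, hV, U, hU, hle, b⟩, map_goodLocus z₁ W.ι (exists_good_of_notMem (c := ⟨V, hV, U, hU, hle, b⟩)
    z₂ hgV hqU ⟨t₁, htW⟩ hb)⟩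

end Groth.Agent.HilbRep
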