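import Mathlib
import Groth.Agent.HilbRep.Reflect

/-!
# The Hilbert functor of points is representable
-/

set_option autoImplicit false
universe u

open CategoryTheory CategoryTheory.Limits AlgebraicGeometry Opposite

noncomputable section

namespace Groth.Agent.HilbRep

variable {X S : Scheme.{u}} (f : X ⟶ S) (d : ℕ) [IsSeparated f]

/-- The morphism from a chart to the functor of families. -/
def chartMap (c : ChartData f d) : yoneda.obj c.scheme ⟶ functor f d :=
  yonedaEquiv.symm c.univ

theorem chartMap_app (c : ChartData f d) (Y : Scheme.{u}ᵒᵖ) (h : Y.unop ⟶ c.scheme) :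
    (chartMap f d c).app Y h = c.univ.restr h := by
  rfl

theorem chartMap_isOpenImmersion (c : ChartData f d) : IsOpenImmersion.presheaf (chartMap f d c) := by
  refine MorphismProperty.relative.of_exists fun T g => ?_
  let z : Fam f d T := yonedaEquiv g
  have hg : ∀ (Y : Scheme.{u}ᵒᵖ) (y : Y.unop ⟶ T), g.app Y y = z.restr y := fun Y y => by
    conv_lhs => rw [← yonedaEquiv.symm_apply_apply g]
    rfl
  let O := goodLocus c z
  obtain ⟨k, hk, hk'⟩ := existsUnique_classify (z.restr O.ι) fun t => preimage_goodLocus z O.ι t.2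
  refine ⟨O.toScheme, yoneda.map k, O.ι, ?_, inferInstance⟩
  refine IsPullback.of_forall_isPullback_app fun Y => ?_
  refine (Types.isPullback_iff _ _ _ _).mpr ⟨?_, ?_, ?_⟩
  · ext (a : Y.unop ⟶ O.toScheme)
    change (chartMap f d c).app Y (a ≫ k) = g.app Y (a ≫ O.ι)
    rw [chartMap_app, hg, ← Fam.restr_restr, hk, Fam.restr_restr]
  · rintro (a : Y.unop ⟶ O.toScheme) (a' : Y.unop ⟶ O.toScheme) h
    exact (cancel_mono O.ι).mp h.2
  · rintro (x : Y.unop ⟶ c.scheme) (y : Y.unop ⟶ T) h
    rw [chartMap_app, hg] at h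
    have hrange : Set.range y ⊆ Set.range O.ι := by
      rintro _ ⟨t, rfl⟩
      rw [Scheme.Opens.range_ι]
      refine mem_goodLocus_image z y ?_
      rw [← h]
      exact preimage_goodLocus c.univ x (mem_goodLocus_of_good (good_univ c) _)
    let a := IsOpenImmersion.lift O.ι y hrange
    have ha : a ≫ O.ι = y := IsOpenImmersion.lift_fac _ _ _
    refine ⟨a, ?_, ha⟩
    change a ≫ k = x
    refine (existsUnique_classify (z.restr y) fun t => preimage_goodLocus z y ?_).unique ?_ h
    · have := hrange ⟨t, rfl⟩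
      rwa [Scheme.Opens.range_ι] at this
    · rw [← Fam.restr_restr, hk, Fam.restr_restr, ha]

theorem isLocallySurjective_chartMap
    (hX : ∀ (s : S) (x : Fin d → X), (∀ i, f.base (x i) = s) → ∃ U : X.Opens, IsAffineOpen U ∧ ∀ i, x i ∈ U) :
    Presheaf.IsLocallySurjective Scheme.zariskiTopology (Sigma.desc (chartMap f d)) := by
  refine ⟨fun {T} (z : Fam f d T) => ?_⟩
  choose c hc using exists_chart hX z
  let 𝒰 : T.OpenCover := Scheme.Cover.mkOfCovers T (fun t => (goodLocus (c t) z).toScheme)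
    (fun t => (goodLocus (c t) z).ι) fun t => ⟨t, ⟨t, hc t⟩, rfl⟩
  refine GrothendieckTopology.superset_covering _ ?_ 𝒰.mem_grothendieckTopology
  rintro V h ⟨W, a, _, ⟨t⟩, rfl⟩
  obtain ⟨k, hk, -⟩ := existsUnique_classify (z.restr (goodLocus (c t) z).ι)
    fun s => preimage_goodLocus z _ s.2
  refine ⟨(Sigma.ι (fun c : ChartData f d => yoneda.obj c.scheme) (c t)).app (op V) (a ≫ k), ?_⟩
  change ((Sigma.ι (fun c : ChartData f d => yoneda.obj c.scheme) (c t)) ≫ Sigma.desc (chartMap f d)).app
    (op V) (a ≫ k) = _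
  rw [Sigma.ι_desc, chartMap_app, ← Fam.restr_restr]
  exact (congrArg (fun w => Fam.restr w a) hk).trans (Fam.restr_restr z _ a)

/-- Representability of `Hilb^d` when `d` points of a fibre lie in an affine open. -/
theorem representable
    (hX : ∀ (s : S) (x : Fin d → X), (∀ i, f.base (x i) = s) → ∃ U : X.Opens, IsAffineOpen U ∧ ∀ i, x i ∈ U) :
    HilbD.Representable f d := by
  let F : Sheaf Scheme.zariskiTopology (Type u) :=
    ⟨functor f d, (isSheaf_iff_isSheaf_of_type _ _).mpr (isSheaf f d)⟩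
  haveI : Presheaf.IsLocallySurjective Scheme.zariskiTopology (Sigma.desc (chartMap f d)) :=
    isLocallySurjective_chartMap f d hX
  obtain ⟨H, ⟨r⟩⟩ := Scheme.LocalRepresentability.isRepresentable (F := F) (f := chartMap f d)
    (chartMap_isOpenImmersion f d)
  let zH : Fam f d H := r.homEquiv (𝟙 H)
  refine ⟨Over.mk zH.g, zH.Z, fun T Z' => ?_⟩
  let z' : Fam f d T.left := ⟨T.hom, Z'⟩
  have he : ∀ m : T.left ⟶ H, r.homEquiv m = zH.restr m := fun m => by
    rw [r.homEquiv_eq m]
    rfl
  have key : ∀ (m : T.left ⟶ H) (hm : m ≫ zH.g = T.hom),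
      zH.restr m = z' ↔ HilbD.pull f (Over.homMk m hm : T ⟶ Over.mk zH.g) zH.Z.1 = Z'.1 := by
    have gen : ∀ (g : T.left ⟶ S) (Z : HilbD.Obj f d (Over.mk g)) (m : T.left ⟶ H) (hm : m ≫ zH.g = g),
        zH.restr m = ⟨g, Z⟩ ↔ HilbD.pull f (Over.homMk m hm : Over.mk g ⟶ Over.mk zH.g) zH.Z.1 = Z.1 := by
      intro g Z m hm
      subst hm
      refine ⟨fun e => ?_, fun e => Fam.ext_ideal e⟩
      have : (zH.restr m).Z = Z := by
        simpa [Fam.restr] using e
      exact congrArg Subtype.val this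
    exact gen T.hom Z'
  refine ⟨Over.homMk (r.homEquiv.symm z') ?_, ?_, fun m hm => ?_⟩
  · exact congrArg Fam.g ((he _).symm.trans (r.homEquiv.apply_symm_apply z'))
  · exact (key _ _).mp ((he _).symm.trans (r.homEquiv.apply_symm_apply z'))
  · refine Over.OverMorphism.ext (r.homEquiv.injective ?_)
    rw [he, he, (key m.left (Over.w m)).mpr hm]
    exact ((he _).symm.trans (r.homEquiv.apply_symm_apply z')).symm

end Groth.Agent.HilbRep
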